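import Mathlib
import Cfsg.Agent.H08.Simp2
import Cfsg.Agent.H08.GWKL1

/-!
# Involutory automorphisms of `PSL₂(q)` and `A₇` fixing no four-group (helper8)
* `H08.NoK α`, `H08.NA.not_noK_conj`, `H08.not_noK_a7`, `H08.noK_psl` (`α` is induced by an element of `PGL₂ ∖ PSL₂`).
* `H08.pgl_cent` (centraliser of an involution of `PGL₂(q)`), `H08.pgl_outer_eq`, `H08.noK_eq`.
-/

set_option autoImplicit false
set_option linter.unusedSectionVars false

namespace H08

open Subgroup Cfsg Matrix H09 L L.Dk Equiv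
open scoped MatrixGroups

/-- `α` fixes no four-group elementwise -/
def NoK {H : Type*} [Group H] (α : MulAut H) : Prop :=
  ∀ x y, α x = x → α y = y → orderOf x = 2 → orderOf y = 2 → Commute x y → x = y

theorem NA.not_noK_conj {H : Type*} [Group H] [Finite H] [IsSimpleGroup H] (hna : ¬ IsMulCommutative H) {g : H}
    (h2 : (MulAut.conj g) ^ 2 = 1) : ¬ NoK (MulAut.conj g) := fun h => by
  have h1 : g * g = 1 := mem_bot.1 (NA.center_bot hna ▸ mem_center_iff.2 fun x => by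
    have := congrArg (fun α : MulAut H => α x) h2
    rw [← map_pow, pow_two] at this
    exact (mul_inv_eq_iff_eq_mul.1 this).symm)
  by_cases h0 : g = 1
  · obtain ⟨E, hE⟩ := NA.klein hna
    obtain ⟨a, b, ha, hb, hab, hc, -⟩ := exists_klein_gens hE
    exact hab (h a b (by simp [h0]) (by simp [h0]) ha hb hc)
  have h3 := orderOf_eq_two_iff'.2 ⟨h1, h0⟩
  exact NA.not_iso hna ⟨h3, fun k hk => (h _ _ (by simp) hk.mul_inv_cancel h3 (by rw [orderOf_conj', h3]) hk).symm⟩

theorem a7_aux : ∀ s ∈ ({swap 0 1, swap 0 1 * swap 2 3 * swap 4 5} : Set (Perm (Fin 7))), ∃ a b : Perm (Fin 7),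
    Perm.sign a = 1 ∧ Perm.sign b = 1 ∧ a ≠ 1 ∧ b ≠ 1 ∧ a ≠ b ∧ a * a = 1 ∧ b * b = 1 ∧ a * b = b * a ∧
      s * a = a * s ∧ s * b = b * s := by
  rintro _ (rfl | rfl) <;> exact ⟨swap 0 1 * swap 2 3, swap 0 1 * swap 4 5, by decide⟩

theorem not_noK_a7 {α : MulAut (alternatingGroup (Fin 7))} (h2 : α ^ 2 = 1) : ¬ NoK α := fun h => by
  have hb := Agent.S2119.result 7 (by norm_num) (by norm_num)
  obtain ⟨s, rfl⟩ := hb.2 α
  have : IsSimpleGroup (alternatingGroup (Fin 7)) := alternatingGroup.isSimpleGroup (by simp)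
  rcases Int.units_eq_one_or (Perm.sign s) with hs | hs
  · have e : MulAut.conjNormal s = MulAut.conj (⟨s, hs⟩ : alternatingGroup (Fin 7)) := by ext y : 2; simp
    rw [e] at h h2
    exact NA.not_noK_conj (not_comm_of_four_dvd (by rw [nat_card_alternatingGroup]; simp [Nat.factorial])) h2 h
  have h3 : orderOf s = 2 := orderOf_eq_prime (hb.1 (by rw [map_pow, h2, map_one])) (by rintro rfl; simp at hs)
  obtain ⟨n, hn⟩ := Perm.cycleType_prime_order (σ := s) (h3 ▸ Nat.prime_two)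
  obtain ⟨r, hr, g, rfl⟩ : ∃ r ∈ ({swap 0 1, swap 0 1 * swap 2 3 * swap 4 5} : Set (Perm (Fin 7))), ∃ g, g * r * g⁻¹ = s := by
    rw [h3] at hn
    have h1 := Perm.sign_of_cycleType s
    have h4 := Perm.sum_cycleType s
    have h5 : s.support.card ≤ 7 := by simpa using Finset.card_le_univ s.support
    rw [hn] at h1 h4
    simp only [Multiset.sum_replicate, smul_eq_mul, Multiset.card_replicate] at h1 h4
    have hn3 : n ≤ 2 := by omega
    interval_cases n
    · exact ⟨_, Or.inl rfl, isConj_iff.1 (Perm.isConj_iff_cycleType_eq.2 (by rw [hn]; decide))⟩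
    · rw [hs] at h1; exact absurd h1 (by decide)
    · exact ⟨_, Or.inr rfl, isConj_iff.1 (Perm.isConj_iff_cycleType_eq.2 (by rw [hn]; decide))⟩
  obtain ⟨a, b, sa, sb, a1, b1, ab, aa, bb, c1, c2, c3⟩ := a7_aux r hr
  have := h ⟨g * a * g⁻¹, by simp [sa]⟩ ⟨g * b * g⁻¹, by simp [sb]⟩
    (Subtype.ext (by simp [mul_inv_eq_iff_eq_mul, mul_assoc, c2]))
    (Subtype.ext (by simp [mul_inv_eq_iff_eq_mul, mul_assoc, c3]))
    (by rw [orderOf_mk, orderOf_conj']; exact orderOf_eq_two_iff'.2 ⟨aa, a1⟩)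
    (by rw [orderOf_mk, orderOf_conj']; exact orderOf_eq_two_iff'.2 ⟨bb, b1⟩)
    (Subtype.ext (by simp only [MulMemClass.coe_mul, conj_mul, c1]))
  exact ab (by simpa using this)

variable {F : Type} [Field F] [Fintype F]

local notation "π" => (ProjectiveSpecialLinearGroup.toPGL : PSL(2, F) →* PGL(2, F))
local notation "pm" => ProjGenLinGroup.mk

theorem toPGL_pslD (X : GL (Fin 2) F) (g : PSL(2, F)) : π (pslD X g) = pm X * π g * (pm X)⁻¹ := by
  obtain ⟨s, rfl⟩ := QuotientGroup.mk_surjective g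
  rw [pslD_mk, ProjectiveSpecialLinearGroup.toPGL_mk, ProjectiveSpecialLinearGroup.toPGL_mk, ← map_inv, ← map_mul, ← map_mul]
  exact congrArg _ (Units.ext rfl)

theorem noK_psl (ho : Odd (Fintype.card F)) (h3 : 3 < Fintype.card F) {α : MulAut PSL(2, F)} (h2 : α ^ 2 = 1) (h : NoK α) :
    ∃ X : GL (Fin 2) F, α = pslD X ∧ orderOf (pm X) = 2 ∧ pm X ∉ pslRange F := by
  obtain ⟨p, _, _⟩ := exists_char F
  have two := L.two_ne_zero_of_odd ho
  obtain ⟨X, σ, hX⟩ := psl_aut_decomp_two p (by simp) α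
  by_cases hσ : σ = 1
  · obtain rfl : α = pslD X := by simpa [hσ] using hX
    have h4 : pm X ∉ pslRange F := by
      rintro ⟨g, hg⟩
      have e : pslD X = MulAut.conj g := by
        ext y
        exact ProjectiveSpecialLinearGroup.toPGL_injective (by simp [toPGL_pslD, hg])
      have := psl_simple (F := F) h3
      rw [e] at h h2
      exact NA.not_noK_conj psl_not_comm h2 h
    refine ⟨X, rfl, orderOf_eq_prime ?_ (fun e => h4 (e ▸ one_mem _)), h4⟩
    rw [← map_pow, ProjGenLinGroup.mk_eq_one, ← ker_pslD, MonoidHom.mem_ker, map_pow, h2]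
  exfalso
  have h2' : gP (glGam X σ) ^ 2 = 1 := by rw [gP_glGam, ← hX, h2]
  obtain ⟨ho', -⟩ := Gam.exists_norm gP (ker_gP (ι := Fin 2) (by simp)) (γ := glGam X σ) hσ Nat.prime_two h2'
  obtain ⟨_, ⟨Y, rfl⟩, hY⟩ := gP_conj (ι := Fin 2) (by simp) (γ := glGam 1 σ) (γ' := glGam X σ) hσ rfl Nat.prime_two
    (by rw [gP_glGam, map_one, one_mul, ← map_pow, show σ ^ 2 = 1 from ho' ▸ pow_orderOf_eq_one _, map_one]) h2'
  rw [gP_glGam, gP_glGam, ← hX, map_one, one_mul] at hY
  obtain ⟨a, b, hab⟩ := CharP.sq_add_sq F p (-1)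
  let A : SL2 F := mkSL !![0, 1; -1, 0] (by simp [det_fin_two])
  let B : SL2 F := mkSL !![(a : F), b; b, -a] (by
    rw [det_fin_two]; simp; push_cast at hab; linear_combination -hab)
  have fA : slField σ A = A := SL2_ext_iff.2 (by simp [slField_val, A, m2_ext_iff])
  have fB : slField σ B = B := SL2_ext_iff.2 (by simp [slField_val, B, m2_ext_iff])
  have com : ∀ s, slField σ s = s → α (pslD Y (QuotientGroup.mk s)) = pslD Y (QuotientGroup.mk s) := fun s hs => by
    rw [hY, MulAut.mul_apply, MulAut.inv_apply_self, MulAut.mul_apply, pslF_mk, hs]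
  have ord : ∀ s : SL2 F, (s : M2 F).trace = 0 → orderOf (pslD Y (QuotientGroup.mk s)) = 2 := fun s hs => by
    rw [MulEquiv.orderOf_eq]
    exact orderOf_eq_prime (mk_sq_of_tr (by rwa [trace_fin_two] at hs))
      (mk_ne_one_iff.2 (not_isScal_of_trace two (sl_det_ne s) hs))
  have hAB : A * B = -(B * A) := SL2_ext_iff.2 (by simp [A, B, m2_ext_iff])
  have e := (pslD Y).injective (h _ _ (com A fA) (com B fB) (ord A (by simp [A, trace_fin_two]))
    (ord B (by simp [B, trace_fin_two])) (Commute.map (show Commute (QuotientGroup.mk A : PSL(2, F))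
      (QuotientGroup.mk B) from PSL2.mk_eq_mk_iff.2 (Or.inr hAB)) (pslD Y)))
  rw [PSL2.mk_eq_mk_iff, SL2_ext_iff, SL2_ext_iff] at e
  simp only [A, B, m2_ext_iff, coe_mkSL, Matrix.SpecialLinearGroup.coe_neg] at e
  simp at e
  rcases e with ⟨-, e1, e2, -⟩ | ⟨-, e1, e2, -⟩
  · exact two (by linear_combination e1 - e2)
  · exact two (by linear_combination e1 + e2)

theorem torN_inv {A : GL (Fin 2) F} (hA : jj (pm A) ≠ 4) {g c : PGL(2, F)} (h : g ∈ torN A) (h' : g ∉ tor A)
    (hc : c ∈ tor A) : g * c * g⁻¹ = c⁻¹ := by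
  have h1 := sq_of_notMem_tor hA (mul_mem h (tor_le hc)) fun e => h' ((mul_mem_cancel_right hc).1 e)
  rw [inv_eq_of_mul_eq_one_right (sq_of_notMem_tor hA h h'), eq_inv_iff_mul_eq_one, mul_assoc, h1]

theorem pgl_jj (ho : Odd (Fintype.card F)) {g : PGL(2, F)} (hg : orderOf g = 2) : jj g ≠ 4 := by
  rw [(pow_two_iff (ne_one_of_orderOf hg)).1 (by rw [pow_two, mul_self_of_orderOf hg])]
  exact (four_ne_zero' (L.two_ne_zero_of_odd ho)).symm

theorem pgl_cent (ho : Odd (Fintype.card F)) {X : GL (Fin 2) F} (hX : orderOf (pm X) = 2) : centralizer {pm X} = torN X := by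
  have h4 := pgl_jj ho hX
  have := isCyclic_tor h4
  ext g
  rw [mem_torN h4, mem_centralizer_singleton']
  exact ⟨fun e => e.symm ▸ self_mem_tor, fun e => invol_eq_of_isCyclic (by rw [orderOf_conj', hX]) hX e self_mem_tor⟩

theorem pslRange_idx (ho : Odd (Fintype.card F)) : (pslRange F).index = 2 := index_pslRange.trans (dd_odd ho)

theorem card_tor_outer (ho : Odd (Fintype.card F)) {X : GL (Fin 2) F} (hX : orderOf (pm X) = 2) (h : pm X ∉ pslRange F) :
    ¬ 4 ∣ Nat.card (tor X) := fun e => by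
  have := isCyclic_tor (pgl_jj ho hX)
  obtain ⟨c, hc⟩ := IsCyclic.exists_ofOrder_eq_natCard (α := tor X)
  obtain ⟨k, hk⟩ := e
  have h0 : 0 < Nat.card (tor X) := Nat.card_pos
  have h1 : orderOf ((c : PGL(2, F)) ^ k * c ^ k) = 2 := by
    rw [← pow_add, orderOf_pow_of_dvd (by omega) (by rw [orderOf_coe, hc, hk]; exact ⟨2, by ring⟩), orderOf_coe, hc, hk]
    exact Nat.div_eq_of_eq_mul_left (by omega) (by ring)
  exact h (invol_eq_of_isCyclic h1 hX (mul_mem (pow_mem c.2 k) (pow_mem c.2 k)) self_mem_tor ▸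
    mul_self_mem_of_index_two (pslRange_idx ho) _)

/-- the centralisers of two commuting outer involutions generate `PGL₂(q)` -/
theorem pgl_outer_eq (ho : Odd (Fintype.card F)) (h3 : 3 < Fintype.card F) {x y : PGL(2, F)} (hx : orderOf x = 2)
    (hy : orderOf y = 2) (hx' : x ∉ pslRange F) (hc : Commute x y) {K : Subgroup PGL(2, F)} (hK : K ≠ ⊤)
    (h1 : centralizer {x} ≤ K) (h2 : centralizer {y} ≤ K) : x = y := by
  by_contra hne
  obtain ⟨p, _, _⟩ := exists_char F
  obtain ⟨M, hM, hKM⟩ := (eq_top_or_exists_le_coatom K).resolve_left hK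
  replace h1 := h1.trans hKM
  replace h2 := h2.trans hKM
  have xM : x ∈ M := h1 (mem_centralizer_singleton_iff.2 rfl)
  have yM : y ∈ M := h2 (mem_centralizer_singleton_iff.2 rfl)
  obtain ⟨X, rfl⟩ := ProjGenLinGroup.mk_surjective x
  obtain ⟨Y, rfl⟩ := ProjGenLinGroup.mk_surjective y
  have jx := pgl_jj ho hx
  have jy := pgl_jj ho hy
  have := isCyclic_tor jx
  obtain ⟨c, hc'⟩ := IsCyclic.exists_ofOrder_eq_natCard (α := tor X)
  rw [← orderOf_coe] at hc'
  have cM : (c : PGL(2, F)) ∈ M := h1 (pgl_cent ho hx ▸ tor_le c.2)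
  have q1 := card_tor jx
  have q2 := card_tor_outer ho hx hx'
  have q3 := Nat.odd_iff.1 ho
  rcases coatom_pgl_cases ho h3 hM (fun e => hM.1 (((H04.isCoatom_of_index_prime (by rw [pslRange_idx ho]; exact Nat.prime_two)).le_iff.1
      e).resolve_right fun e => hx' (e ▸ xM))) with
    ⟨z, rfl⟩ | ⟨A, hA, rfl, -⟩ | ⟨-, -, ⟨e⟩⟩ | ⟨F₁, σ, r, hr, hr', hF, rfl⟩
  · have h5 := mul_pow_char_of_fix p xM yM (ne_one_of_orderOf hx) (ne_one_of_orderOf hy) (mul_self_of_orderOf hx)
      (mul_self_of_orderOf hy)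
    have h6 : orderOf (pm X * pm Y) = 2 := orderOf_eq_prime (by
      rw [hc.mul_pow, pow_two, pow_two, mul_self_of_orderOf hx, mul_self_of_orderOf hy, one_mul]) (mul_ne_one_of_invol hx hne)
    have := (h6 ▸ orderOf_dvd_of_pow_eq_one h5).trans (char_dvd_card (F := F) p)
    omega
  · have key : ∀ Z : GL (Fin 2) F, orderOf (pm Z) = 2 → centralizer {pm Z} ≤ torN A → centralizer {pm Z} = torN A := by
      intro Z hZ hle
      have h5 := card_dvd_of_le hle
      refine eq_of_le_of_card_ge hle ?_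
      rw [pgl_cent ho hZ, card_torN (pgl_jj ho hZ), card_torN hA] at h5 ⊢
      have h6 := Nat.dvd_of_mul_dvd_mul_left two_pos h5
      rcases card_tor hA with a | a <;> rcases card_tor (pgl_jj ho hZ) with b | b <;> rw [a, b] at h6 ⊢
      · omega
      · have := Nat.le_of_dvd two_pos ((Nat.dvd_add_right (dvd_refl (Fintype.card F - 1))).1
          (by convert h6 using 1; omega : Fintype.card F - 1 ∣ Fintype.card F - 1 + 2))
        omega
    have h5 : Commute (c : PGL(2, F)) (pm Y) := mem_centralizer_singleton_iff.1 (key Y hy h2 ▸ cM)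
    by_cases h6 : pm Y ∈ tor X
    · exact hne (invol_eq_of_isCyclic hx hy self_mem_tor h6)
    have h7 := torN_inv jx (pgl_cent ho hx ▸ mem_centralizer_singleton_iff.2 hc.symm) h6 c.2
    rw [h5.symm.mul_inv_cancel, eq_inv_iff_mul_eq_one, ← pow_two] at h7
    have := orderOf_le_of_pow_eq_one two_pos h7
    omega
  · have := orderOf_S4 (e ⟨c, cM⟩)
    rw [e.orderOf_eq, orderOf_mk] at this
    omega
  · classical
    have h5 := orderOf_pgl_le (subPGLEquiv σ F₁ ⟨c, cM⟩)
    rw [MulEquiv.orderOf_eq, orderOf_mk, ← Nat.card_eq_fintype_card] at h5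
    have h6 : 2 ≤ Nat.card F₁ := Finite.one_lt_card
    have h7 : Nat.card F₁ ^ 3 ≤ Fintype.card F := hF ▸ Nat.pow_le_pow_right (by omega) (by
      have := hr.two_le; rw [Nat.odd_iff] at hr'; omega)
    have h8 : 4 * Nat.card F₁ ≤ Nat.card F₁ ^ 3 := by
      rw [pow_succ]; exact Nat.mul_le_mul_right _ (Nat.pow_le_pow_left h6 2)
    omega

theorem noK_eq (ho : Odd (Fintype.card F)) (h3 : 3 < Fintype.card F) {α β : MulAut PSL(2, F)} (a2 : α ^ 2 = 1) (b2 : β ^ 2 = 1)
    (ha : NoK α) (hb : NoK β) (hc : Commute α β) {H : Subgroup PSL(2, F)} (hH : H ≠ ⊤) (na : ∀ x ∈ H, α x ∈ H)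
    (nb : ∀ x ∈ H, β x ∈ H) (fa : ∀ x, α x = x → x ∈ H) (fb : ∀ x, β x = x → x ∈ H) : α = β := by
  obtain ⟨p, _, _⟩ := exists_char F
  have inj := ProjectiveSpecialLinearGroup.toPGL_injective (n := Fin 2) (R := F)
  have key : ∀ X : GL (Fin 2) F, pm X ∉ pslRange F → (∀ x ∈ H, pslD X x ∈ H) → (∀ x, pslD X x = x → x ∈ H) →
      centralizer {pm X} ≤ normalizer (H.map π : Set PGL(2, F)) := fun X h1 h2 h4 g hg => by
    have h5 : ∀ g ∈ centralizer {pm X}, g ∈ pslRange F → g ∈ normalizer (H.map π : Set PGL(2, F)) := by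
      rintro _ hg ⟨g, rfl⟩
      exact le_normalizer (mem_map_of_mem _ (h4 g (inj (by
        rw [toPGL_pslD, (show Commute _ _ from mem_centralizer_singleton_iff.1 hg).symm.mul_inv_cancel]))))
    have h6 : pm X ∈ normalizer (H.map π : Set PGL(2, F)) := H03.mem_normalizer_of_conj_le (by
      rintro _ ⟨x, hx, rfl⟩; exact ⟨_, h2 x hx, toPGL_pslD X x⟩)
    by_cases h : g ∈ pslRange F
    · exact h5 g hg h
    · exact (mul_mem_cancel_right h6).1 (h5 _ (mul_mem hg (mem_centralizer_singleton_iff.2 rfl))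
        ((mul_mem_iff_of_index_two (pslRange_idx ho)).2 (iff_of_false h h1)))
  obtain ⟨X, rfl, x2, x1⟩ := noK_psl ho h3 a2 ha
  obtain ⟨Y, rfl, y2, y1⟩ := noK_psl ho h3 b2 hb
  have e : ∀ X Y : GL (Fin 2) F, pslD X = pslD Y ↔ pm X = pm Y := fun X Y => by
    rw [← inv_mul_eq_one, ← inv_mul_eq_one (a := pm X), ← map_inv, ← map_inv, ← map_mul, ← map_mul,
      ProjGenLinGroup.mk_eq_one, ← ker_pslD, MonoidHom.mem_ker]
  refine (e X Y).2 (pgl_outer_eq ho h3 x2 y2 x1 ((e (X * Y) (Y * X)).1 (by simpa using hc.eq)) (fun h => ?_)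
    (key X x1 na fa) (key Y y1 nb fb))
  have := psl_simple (F := F) h3
  have h1 : H.Normal := ⟨fun x hx g => by
    have := H03.conj_mem_of_mem_normalizer (h ▸ mem_top (π g)) (mem_map_of_mem π hx)
    rwa [← map_inv, ← map_mul, ← map_mul, mem_map_iff_mem inj] at this⟩
  obtain rfl := h1.eq_bot_or_eq_top.resolve_right hH
  have j := pgl_jj ho x2
  have := isCyclic_tor j
  obtain ⟨c, hc'⟩ := IsCyclic.exists_ofOrder_eq_natCard (α := tor X)
  obtain ⟨g, hg⟩ := mul_self_mem_of_index_two (pslRange_idx ho) (c : PGL(2, F))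
  have h4 : Commute (c : PGL(2, F)) (pm X) := mem_centralizer_singleton_iff.1 (pgl_cent ho x2 ▸ tor_le c.2)
  rw [mem_bot.1 (fa g (inj (by rw [toPGL_pslD, hg, (h4.mul_left h4).symm.mul_inv_cancel]))), map_one, ← pow_two] at hg
  have := orderOf_le_of_pow_eq_one two_pos hg.symm
  have := card_tor j
  rw [orderOf_coe] at *
  omega

end H08
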