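import Mathlib
import Cfsg.Agent.H08.Dihedral
import Cfsg.Agent.H04.Aut
import Cfsg.Agent.H04.Quat2
import Cfsg.Agent.H17.Constr
import Cfsg.Agent.H26.CharP
import Cfsg.Agent.H03.NPC4

/-!
# Solvable groups whose Sylow 2-intersections have rank at most one (namespace `H08.R1`)

`gl23` recognises `GL(2,3)`; `core` treats the case `O(G) = 1`; `s3304` is the theorem.
-/

set_option autoImplicit false
set_option linter.unusedSectionVars false
set_option linter.unusedVariables false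
set_option linter.style.haveILetI false
open Cfsg Subgroup H04

namespace H08.R1

/-- a 3-cycle -/
def σ0 : Equiv.Perm (Fin 4) := Equiv.swap 0 1 * Equiv.swap 1 2
/-- a transposition -/
def τ0 : Equiv.Perm (Fin 4) := Equiv.swap 0 1

theorem r1 : σ0 ^ 3 = 1 := by decide +kernel
theorem r2 : τ0 * τ0 = 1 := by decide +kernel
theorem r3 : τ0 * σ0 * τ0⁻¹ = σ0⁻¹ := by decide +kernel

/-- the point stabilizer -/
def π0 : DihedralGroup 3 →* Equiv.Perm (Fin 4) := dihedralHom r1 r2 r3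

theorem d1 : ∀ (n : QuaternionGroup 2) (d : DihedralGroup 3), (∀ y, n * q8Act (π0 d) y * n⁻¹ = y) → d = 1 := by decide +kernel
theorem d2 : ∀ τ : Equiv.Perm (Fin 4), τ * τ = 1 → (∃ x : QuaternionGroup 2, ∀ y, q8Act τ y = x * y * x⁻¹) ∨ ∃ γ, γ * τ * γ⁻¹ = τ0 := by
  decide +kernel
theorem d3 : ∀ σ : Equiv.Perm (Fin 4), q8Act σ (.a 2) = .a 2 := by decide +kernel
theorem d4 : ∀ x : QuaternionGroup 2, (∀ y, y * x = x * y) → x = 1 ∨ x = .a 2 := by decide +kernel
theorem d5 : ∀ x : QuaternionGroup 2, x * x = 1 → x = 1 ∨ x = .a 2 := by decide +kernel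
theorem d6 : ∀ σ : Equiv.Perm (Fin 4), σ ^ 4 ≠ 1 → σ ^ 3 = 1 := by decide +kernel

theorem d7 : (.a 1 : QuaternionGroup 2) * .xa 0 ≠ .xa 0 * .a 1 := by decide

/-- the model -/
abbrev M := QuaternionGroup 2 ⋊[q8Hom.comp π0] DihedralGroup 3

theorem model {X : Type*} [Group X] [Finite X] (hX : Nat.card X = 48) (f : QuaternionGroup 2 →* X) (hf : Function.Injective f)
    {s t : X} (h1 : s ^ 3 = 1) (h2 : t * t = 1) (h3 : t * s * t⁻¹ = s⁻¹) (hs : ∀ y, f (q8Act σ0 y) = s * f y * s⁻¹)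
    (ht : ∀ y, f (q8Act τ0 y) = t * f y * t⁻¹) : Nonempty (M ≃* X) := by
  have hp : ∀ (k : ℕ) y, f (q8Act (σ0 ^ k) y) = s ^ k * f y * (s ^ k)⁻¹ := fun k => by
    induction k with
    | zero => intro y; simp [q8Act_one]
    | succ k ih => intro y; rw [pow_succ', q8Act_act, hs, ih]; group
  have hc : ∀ d y, f (q8Act (π0 d) y) = dihedralHom h1 h2 h3 d * f y * (dihedralHom h1 h2 h3 d)⁻¹ := by
    rintro (i | i) y
    · exact hp i.val y
    · change f (q8Act (τ0 * σ0 ^ i.val) y) = t * s ^ i.val * f y * (t * s ^ i.val)⁻¹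
      rw [q8Act_act, ht, hp]; group
  refine ⟨MulEquiv.ofBijective (SemidirectProduct.lift (φ := q8Hom.comp π0) f (dihedralHom h1 h2 h3)
    fun d => MonoidHom.ext fun y => hc d y)
    ((Nat.bijective_iff_injective_and_card _).2 ⟨(injective_iff_map_eq_one _).2 fun x hx => ?_, ?_⟩)⟩
  · change f x.left * dihedralHom h1 h2 h3 x.right = 1 at hx
    have e : x.right = 1 := d1 x.left x.right fun y => hf (by
      rw [map_mul, map_mul, map_inv, hc, eq_inv_of_mul_eq_one_left hx]; group)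
    rw [e, map_one, mul_one] at hx
    exact SemidirectProduct.ext ((map_eq_one_iff f hf).1 hx) e
  · rw [hX, SemidirectProduct.card, Nat.card_eq_fintype_card, Nat.card_eq_fintype_card, QuaternionGroup.card, DihedralGroup.card]

/-- generators -/
def gI : GL (Fin 2) (ZMod 3) := ⟨!![0, 1; 2, 0], !![0, 2; 1, 0], by decide, by decide⟩
/-- generators -/
def gJ : GL (Fin 2) (ZMod 3) := ⟨!![1, 1; 1, 2], !![2, 2; 2, 1], by decide, by decide⟩
/-- generators -/
def gS : GL (Fin 2) (ZMod 3) := ⟨!![1, 0; 1, 1], !![1, 0; 2, 1], by decide, by decide⟩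
/-- generators -/
def gT : GL (Fin 2) (ZMod 3) := ⟨!![1, 0; 0, 2], !![1, 0; 0, 2], by decide, by decide⟩

theorem model_gl : Nonempty (M ≃* GL (Fin 2) (ZMod 3)) :=
  model (by rw [Matrix.card_GL_field]; simp)
    (quaternionHom (a := gI) (b := gJ) (n := 2) (by decide +kernel) (by decide +kernel) (by decide +kernel))
    ((injective_iff_map_eq_one _).2 (by decide +kernel)) (s := gS) (t := gT) (by decide +kernel) (by decide +kernel)
    (by decide +kernel) (by decide +kernel) (by decide +kernel)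

variable {G : Type*} [Group G] [Finite G]

theorem uniq {P : Type*} [Group P] [Finite P] (hP : IsPGroup 2 P) (h : PRankLE 2 1 P) :
    IsCyclic P ∨ ∃ n : ℕ, Nonempty (P ≃* QuaternionGroup (2 ^ (n + 1))) :=
  (isCyclic_or_quaternion_of_unique hP (unique_of_forall_isCyclic hP fun V hV e => by
    have := h V hV.1 hV.2
    omega)).imp_right And.right

theorem core (hs : Group.IsSolvable G) (hO : oddCore G = ⊥) (hR : PRankLE 2 1 (pCore 2 G)) :
    (∃ P : Sylow 2 G, (P : Subgroup G).Normal) ∨ Nonempty (G ≃* GL (Fin 2) (ZMod 3)) ∨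
    (Nat.card G = 48 ∧ Nat.card (center G) = 2 ∧ Nonempty (G ⧸ center G ≃* Equiv.Perm (Fin 4)) ∧
      ∀ P : Sylow 2 G, Nonempty ((P : Subgroup G) ≃* QuaternionGroup 4)) := by
  obtain ⟨T⟩ : Nonempty (Sylow 2 G) := inferInstance
  refine or_iff_not_imp_left.2 fun hn => ?_
  have hne : (T : Subgroup G) ≠ ⊤ := fun h => hn ⟨T, h ▸ inferInstance⟩
  obtain ⟨Q, hQ⟩ : ∃ Q, Q = pCore 2 G := ⟨_, rfl⟩
  have hQn : Q.Normal := hQ ▸ inferInstance
  have hQ2 : IsPGroup 2 Q := hQ ▸ H02.pCore_isPGroup 2 G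
  have hC : centralizer (Q : Set G) ≤ Q := hQ ▸ H17.centralizer_pCore_le_of_solvable hO
  have hQT : ∀ T : Sylow 2 G, Q ≤ T := fun T => hQ2.le_sylow_of_normal T
  rw [← hQ] at hR
  obtain ⟨q, hq, hqd⟩ := Nat.exists_prime_and_dvd (n := (T : Subgroup G).index)
    (fun h => hne (index_eq_one.1 h))
  have hq2 : q ≠ 2 := fun h => T.not_dvd_index (h ▸ hqd)
  have := Fact.mk hq
  obtain ⟨g, hg⟩ := exists_prime_orderOf_dvd_card' (G := G) q (hqd.trans (index_dvd_card _))
  have hc : (orderOf g).Coprime 2 := hg ▸ (Nat.coprime_primes hq Nat.prime_two).2 hq2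
  have hg1 : g ≠ 1 := fun h => by rw [h, orderOf_one] at hg; exact hq.one_lt.ne hg
  have hgQ : g ∉ Q := fun h => hg1 (congrArg Subtype.val
    (H03.eq_one_of_isPGroup_of_coprime hQ2 (g := ⟨g, h⟩) (by rwa [orderOf_mk])))
  have hgC : g ∉ centralizer (Q : Set G) := fun h => hgQ (hC h)
  have hgN : g ∈ normalizer (Q : Set G) := by rw [normalizer_eq_top]; trivial
  obtain ⟨e⟩ : Nonempty (Q ≃* QuaternionGroup 2) := by
    rcases uniq hQ2 hR with h | ⟨n, ⟨e⟩⟩
    · exact absurd (le_centralizer_of_isCyclic_of_coprime h hQ2 (zpowers_le.2 hgN) (by rwa [Nat.card_zpowers]) (mem_zpowers g)) hgC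
    · obtain ⟨m', a', b', h⟩ := IsDSQ.of_equiv ⟨n, _, _, dsq_quaternion n⟩ e.symm
      refine h.isPGroup_mulAut_or.resolve_left fun h2 => hgC ?_
      exact H17.mem_centralizer_of_conjAut_eq_one Q hgN (H03.eq_one_of_isPGroup_of_coprime h2
        (hc.coprime_dvd_left (H17.orderOf_conjAut_dvd Q hgN)))
  obtain ⟨ρ, hρ⟩ : ∃ ρ : G →* Equiv.Perm (Fin 4), ∀ (k : G) (d : Q),
      e (MulAut.conjNormal k d) = q8Act (ρ k) (e d) := by
    refine ⟨((MulAut.congr e).trans q8Aut.symm).toMonoidHom.comp (MulAut.conjNormal (H := Q)), fun k d => ?_⟩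
    have h1 := MulEquiv.congr_fun (q8Aut.apply_symm_apply (MulAut.congr e (MulAut.conjNormal k))) (e d)
    rw [MulAut.congr_apply, MulEquiv.trans_apply, MulEquiv.trans_apply, e.symm_apply_apply] at h1
    exact h1.symm
  obtain ⟨f, hf, fQ, fs⟩ : ∃ f : QuaternionGroup 2 →* G, Function.Injective f ∧ (∀ y, f y ∈ Q) ∧ (∀ x ∈ Q, ∃ y, f y = x) ∧
      ∀ k y, f (q8Act (ρ k) y) = k * f y * k⁻¹ := by
    refine ⟨Q.subtype.comp e.symm.toMonoidHom, Subtype.val_injective.comp e.symm.injective, fun y => (e.symm y).2,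
      fun x hx => ⟨e ⟨x, hx⟩, by simp⟩, fun k y => ?_⟩
    have := hρ k (e.symm y)
    rw [e.apply_symm_apply] at this
    rw [← this]
    simp [MulAut.conjNormal_apply]
  obtain ⟨fs, fρ⟩ := fs
  obtain ⟨z, hz⟩ : ∃ z, z = f (.a 2) := ⟨_, rfl⟩
  have z2 : z * z = 1 := by rw [hz, ← map_mul, ← map_one f]; rfl
  have z1 : z ≠ 1 := fun h => absurd ((map_eq_one_iff f hf).1 (hz ▸ h)) (by decide)
  have zc : z ∈ center G := mem_center_iff.2 fun k => by rw [← mul_inv_eq_iff_eq_mul, hz, ← fρ, d3]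
  have kz : ∀ k, (∀ y, k * f y * k⁻¹ = f y) → k = 1 ∨ k = z := fun k h => by
    obtain ⟨x, rfl⟩ := fs k (hC fun y hy => by obtain ⟨y, rfl⟩ := fs y hy; exact (mul_inv_eq_iff_eq_mul.1 (h y)).symm)
    rcases d4 x (fun y => hf (by rw [map_mul, map_mul]; exact (mul_inv_eq_iff_eq_mul.1 (h y)).symm)) with k | k <;> rw [k]
    · exact Or.inl (map_one f)
    · exact Or.inr hz.symm
  have k1 : ∀ k, ρ k = 1 → k = 1 ∨ k = z := fun k h => kz k fun y => by rw [← fρ, h, q8Act_one]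
  have kc : ρ.ker = center G := le_antisymm (fun k h => by rcases k1 k h with e | e <;> rw [e]; exacts [one_mem _, zc])
    fun k h => q8Act_inj _ fun y => hf (by rw [fρ, ← mem_center_iff.1 h, mul_inv_cancel_right])
  have cz : center G = zpowers z := le_antisymm (fun k h => by
    rcases k1 k (kc.ge h) with e | e <;> rw [e]; exacts [one_mem _, mem_zpowers z]) (zpowers_le.2 zc)
  have c2 : Nat.card (center G) = 2 := by rw [cz, Nat.card_zpowers, orderOf_eq_two_iff'.2 ⟨z2, z1⟩]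
  have hρ1 : ρ g ≠ 1 := fun h => hgC (center_le_centralizer _ (kc.le h))
  have ho : orderOf (ρ g) ∣ orderOf g := orderOf_map_dvd ρ g
  have h3 := d6 (ρ g) fun h => hρ1 (H26.eq_one_of_coprime h ((hc.coprime_dvd_left ho).pow_right 2))
  have h33 : Fact (Nat.Prime 3) := ⟨by norm_num⟩
  have hcQ : Nat.card Q = 8 := by
    rw [Nat.card_congr e.toEquiv, Nat.card_eq_fintype_card, QuaternionGroup.card]
  have c3 : 3 ∣ Nat.card G := (orderOf_eq_prime h3 hρ1 ▸ ho).trans (orderOf_dvd_natCard g)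
  have c16 : ∀ T : Sylow 2 G, 16 ∣ Nat.card T := fun T => by
    obtain ⟨n, hn'⟩ := IsPGroup.iff_card.1 T.2
    have h1 : Nat.card Q < Nat.card T := lt_of_le_of_ne (card_le_of_le (hQT T)) fun h =>
      hn ⟨T, eq_of_le_of_card_ge (hQT T) h.ge ▸ hQn⟩
    rw [hcQ, hn'] at h1
    rw [hn']
    exact pow_dvd_pow 2 (show 4 ≤ n from (Nat.pow_lt_pow_iff_right (by norm_num)).1 (show 2 ^ 3 < 2 ^ n from h1))
  have c48 : 48 ∣ Nat.card G := Nat.Coprime.mul_dvd_of_dvd_of_dvd (m := 3) (n := 16) (by norm_num) c3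
    ((c16 T).trans (card_subgroup_dvd_card _))
  have cp : Nat.card (Equiv.Perm (Fin 4)) = 24 := by rw [Nat.card_eq_fintype_card, Fintype.card_perm]; rfl
  have cr : Nat.card G = 2 * Nat.card ρ.range := by rw [← ρ.ker.card_mul_index, index_ker, kc, c2]
  have cr2 : Nat.card ρ.range ≤ 24 := cp ▸ card_le_card_group _
  have cG : Nat.card G = 48 := by
    have := Nat.le_of_dvd Nat.card_pos c48
    omega
  have sj : Function.Surjective ρ := MonoidHom.range_eq_top.1 (eq_top_of_le_card _ (by omega))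
  by_cases hi : ∀ t : G, t * t = 1 → t ∈ Q
  · refine Or.inr ⟨cG, c2, ⟨(QuotientGroup.quotientMulEquivOfEq kc.symm).trans (QuotientGroup.quotientKerEquivOfSurjective ρ sj)⟩,
      fun P => ?_⟩
    have cP : Nat.card P = 16 := by
      have h1 := card_subgroup_dvd_card (P : Subgroup G)
      obtain ⟨n, hn'⟩ := IsPGroup.iff_card.1 P.2
      have h2 := c16 P
      rw [hn'] at h1 h2 ⊢
      rw [cG] at h1
      exact Nat.dvd_antisymm ((Nat.Coprime.pow_left n (by norm_num : Nat.Coprime 2 3)).dvd_of_dvd_mul_left h1) h2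
    rcases uniq P.2 (fun A _ hA => by
      have : A.map (P : Subgroup G).subtype ≤ center G := by
        rintro _ ⟨x, hx, rfl⟩
        have x2 : (x : G) * x = 1 := by rw [← pow_two]; exact congrArg Subtype.val (hA x hx)
        obtain ⟨y, hy⟩ := fs _ (hi _ x2)
        rcases d5 y (hf (by rw [map_mul, hy, x2, map_one])) with k | k <;> rw [k] at hy
        · change (x : G) ∈ _; rw [← hy, map_one]; exact one_mem _
        · change (x : G) ∈ _; rw [← hy, ← hz]; exact zc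
      have := card_le_of_le this
      rwa [card_map_of_injective (subtype_injective _), c2] at this) with h | ⟨n, ⟨ε⟩⟩
    · have : IsCyclic Q := Subgroup.isCyclic_of_le (hQT P)
      have := isCyclic_of_surjective e e.surjective
      exact (d7 (this.commGroup.mul_comm (.a 1) (.xa 0))).elim
    · have := Nat.card_congr ε.toEquiv
      rw [cP, Nat.card_eq_fintype_card, QuaternionGroup.card] at this
      obtain rfl : n = 1 := by
        have : 2 ^ (n + 1) = 2 ^ 2 := by omega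
        have := Nat.pow_right_injective le_rfl this
        omega
      exact ⟨ε⟩
  · left
    push Not at hi
    obtain ⟨t, t2, tQ⟩ := hi
    obtain ⟨γ, hγ⟩ := (d2 (ρ t) (by rw [← map_mul, t2, map_one])).resolve_left fun ⟨x, hx⟩ => tQ (by
      have : (f x)⁻¹ * t ∈ Q := by
        rcases kz ((f x)⁻¹ * t) (fun y => by
          rw [show (f x)⁻¹ * t * f y * ((f x)⁻¹ * t)⁻¹ = (f x)⁻¹ * (t * f y * t⁻¹) * f x by group, ← fρ, hx, map_mul, map_mul,
            map_inv]; group) with k | k <;> rw [k]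
        exacts [one_mem _, hz ▸ fQ _]
      simpa using Q.mul_mem (fQ x) this)
    obtain ⟨γ, rfl⟩ := sj γ
    obtain ⟨t, t2, ht⟩ : ∃ t : G, t * t = 1 ∧ ρ t = τ0 := ⟨γ * t * γ⁻¹, by rw [conj_mul, t2]; group, by simpa using hγ⟩
    obtain ⟨s, s3, hs'⟩ : ∃ s : G, s ^ 3 = 1 ∧ ρ s = σ0 := by
      obtain ⟨s, hs'⟩ := sj σ0
      refine ⟨s ^ 4, ?_, by rw [map_pow, hs', pow_succ, r1, one_mul]⟩
      rw [← pow_mul, mul_comm, pow_mul]
      rcases k1 (s ^ 3) (by rw [map_pow, hs', r1]) with k | k <;> rw [k]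
      · exact one_pow _
      · rw [show z ^ 4 = z * z * (z * z) by simp only [pow_succ, pow_zero, one_mul, mul_assoc], z2, one_mul]
    have ts : t * s * t⁻¹ = s⁻¹ := by
      refine eq_inv_of_mul_eq_one_left ((k1 _ (by rw [map_mul, map_mul, map_mul, map_inv, ht, hs', r3, inv_mul_cancel])).resolve_right
        fun k => z1 ?_)
      have : (z * s⁻¹) ^ 3 = 1 := by rw [← eq_mul_inv_of_mul_eq k, conj_pow, s3]; group
      rwa [Commute.mul_pow (mem_center_iff.1 zc s⁻¹).symm, inv_pow, s3, inv_one, mul_one, pow_succ, pow_two, z2, one_mul] at this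
    obtain ⟨e1⟩ := model cG f hf s3 t2 ts (fun y => hs' ▸ fρ s y) (fun y => ht ▸ fρ t y)
    exact ⟨e1.symm.trans model_gl.some⟩

theorem s3304 (hs : Group.IsSolvable G)
    (hI : ∀ S T : Sylow 2 G, S ≠ T → PRankLE 2 1 ↥((S : Subgroup G) ⊓ (T : Subgroup G))) :
    (∃ P : Sylow 2 (G ⧸ oddCore G), (P : Subgroup (G ⧸ oddCore G)).Normal) ∨
    Nonempty ((G ⧸ oddCore G) ≃* GL (Fin 2) (ZMod 3)) ∨
    (Nat.card (G ⧸ oddCore G) = 48 ∧ Nat.card ↥(center (G ⧸ oddCore G)) = 2 ∧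
      Nonempty ((G ⧸ oddCore G) ⧸ center (G ⧸ oddCore G) ≃* Equiv.Perm (Fin 4)) ∧
      ∀ P : Sylow 2 (G ⧸ oddCore G), Nonempty (↥(P : Subgroup (G ⧸ oddCore G)) ≃* QuaternionGroup 4)) := by
  refine or_iff_not_imp_left.2 fun hn => (core inferInstance (H02.pPrimeCore_quotient_pPrimeCore 2 G) fun A hA h2 => ?_).resolve_left hn
  have sj := QuotientGroup.mk'_surjective (oddCore G)
  obtain ⟨V, hV⟩ : ∃ V, V = A.map (pCore 2 (G ⧸ oddCore G)).subtype := ⟨_, rfl⟩
  have hVP : ∀ P : Sylow 2 (G ⧸ oddCore G), V ≤ P := fun P =>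
    hV ▸ (map_subtype_le A).trans ((H02.pCore_isPGroup 2 _).le_sylow_of_normal P)
  obtain ⟨S⟩ : Nonempty (Sylow 2 G) := inferInstance
  obtain ⟨T', hT'⟩ : ∃ T' : Sylow 2 (G ⧸ oddCore G), T' ≠ S.mapSurjective sj := by
    by_contra h
    push Not at h
    haveI : Unique (Sylow 2 (G ⧸ oddCore G)) := ⟨⟨_⟩, h⟩
    exact hn ⟨default, Sylow.normal_of_subsingleton _⟩
  obtain ⟨T, rfl⟩ := Sylow.mapSurjective_surjective sj 2 T'
  obtain ⟨W, hW⟩ : ∃ W, W = (S : Subgroup G) ⊓ V.comap (QuotientGroup.mk' (oddCore G)) := ⟨_, rfl⟩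
  have W2 : IsPGroup 2 W := S.2.to_le (hW ▸ inf_le_left)
  have inj : ∀ x ∈ (S : Subgroup G), QuotientGroup.mk' (oddCore G) x = 1 → x = 1 := fun x hx h =>
    mem_bot.1 ((H02.isPGroup_inf_pPrimeCore S.2).le ⟨hx, (QuotientGroup.eq_one_iff x).1 h⟩)
  obtain ⟨N, hN⟩ : ∃ N, N = ((T : Subgroup G).map (QuotientGroup.mk' (oddCore G))).comap (QuotientGroup.mk' (oddCore G)) := ⟨_, rfl⟩
  have TN : (T : Subgroup G) ≤ N := hN ▸ le_comap_map _ _
  obtain ⟨g, hg, hle⟩ := BG.sylow_subJ Nat.prime_two (BG.isSylowIn_mk Nat.prime_two TN T.2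
    fun h => T.not_dvd_index (h.trans (relIndex_dvd_index_of_le TN))) W2
    (hW ▸ hN ▸ inf_le_right.trans (comap_mono (hVP (T.mapSurjective sj))))
  have ne : S ≠ g • T := fun h => hT' (Sylow.ext ((S.mapSurjective sj).3 (T.mapSurjective sj).2 (by
    rintro _ ⟨x, hx, rfl⟩
    have : x ∈ N := by
      rw [h] at hx
      obtain ⟨y, hy, rfl⟩ := hx
      exact N.mul_mem (N.mul_mem hg (TN hy)) (N.inv_mem hg)
    rw [hN] at this
    exact this)))
  have WS : W ≤ (S : Subgroup G) ⊓ (g • T : Sylow 2 G) := le_inf (hW ▸ inf_le_left) fun x hx => by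
    obtain ⟨y, hy, rfl⟩ := BG.mem_cj'.1 (hle hx)
    exact ⟨y, hy, rfl⟩
  have mA : ∀ x ∈ W, x ∈ (S : Subgroup G) ∧ ∃ a ∈ A, (a : G ⧸ oddCore G) = QuotientGroup.mk' (oddCore G) x := fun x hx => by
    rw [hW, hV] at hx
    exact hx
  have := hI S _ ne (W.subgroupOf _) ⟨⟨fun x y => Subtype.ext (Subtype.ext (by
      obtain ⟨xs, a, ha, e⟩ := mA _ x.2
      obtain ⟨ys, b, hb, f⟩ := mA _ y.2
      refine mul_inv_eq_one.1 (inj _ (mul_mem (mul_mem xs ys) (inv_mem (mul_mem ys xs))) ?_)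
      rw [map_mul, map_inv, mul_inv_eq_one]
      change QuotientGroup.mk' _ (x.1.1 * y.1.1) = QuotientGroup.mk' _ (y.1.1 * x.1.1)
      rw [map_mul, map_mul]
      erw [← e, ← f]
      exact congrArg (fun t : A => (t.1.1 : G ⧸ oddCore G)) (hA.is_comm.comm ⟨a, ha⟩ ⟨b, hb⟩)))⟩⟩
    fun x hx => Subtype.ext (by
      obtain ⟨xs, a, ha, e⟩ := mA _ hx
      refine inj _ (pow_mem xs 2) ?_
      change QuotientGroup.mk' _ (x.1 ^ 2) = 1
      rw [map_pow]
      erw [← e]
      exact congrArg Subtype.val (h2 a ha))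
  rw [Nat.card_congr (subgroupOfEquivOfLe WS).toEquiv] at this
  refine le_trans ?_ this
  rw [← card_map_of_injective (K := A) (subtype_injective _), ← hV]
  refine (card_le_of_le (K := W.map (QuotientGroup.mk' (oddCore G))) fun v hv => ?_).trans (Nat.le_of_dvd Nat.card_pos (card_map_dvd _ _))
  obtain ⟨x, hx, rfl⟩ := hVP (S.mapSurjective sj) hv
  exact ⟨x, hW ▸ ⟨hx, hv⟩, rfl⟩

end H08.R1
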