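import Mathlib
import Cfsg.Agent.H01.GL23a

/-!
# Arithmetic for involution centralizers `C` with `C/O(C) = GL(2,3)` (namespace `H08.Wo`)

`alg`: the principal block contains a character of degree at most 15.
-/

set_option autoImplicit false
set_option linter.unusedSectionVars false
open Cfsg BG Subgroup H05 H01 H01.G23

namespace H08.Wo

theorem num0 {n w a c e : ℤ} (hn : n % 32 = 16) (hw : w % 2 = 1) (a0 : a ≠ 0) (a1 : a + 1 ≠ 0) (c0 : c ≠ 0) (c1 : c ≠ 1) (e0 : e ≠ 0)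
    (s : c + e = a + 1) (e3 : (n : ℚ) * (1 + 9 / a - 16 / (a + 1)) = ((9216 * w : ℤ) : ℚ))
    (e4 : (n : ℚ) * (1 / c + 9 / e - 16 / (a + 1)) = ((9216 * w : ℤ) : ℚ)) : a = -13 ∨ e = 11 := by
  have n0 : (n : ℚ) ≠ 0 := by exact_mod_cast (by omega : n ≠ 0)
  have a0' : (a : ℚ) ≠ 0 := by exact_mod_cast a0
  have a1' : (a : ℚ) + 1 ≠ 0 := by exact_mod_cast a1
  have c0' : (c : ℚ) ≠ 0 := by exact_mod_cast c0
  have e0' : (e : ℚ) ≠ 0 := by exact_mod_cast e0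
  have k : (1 : ℚ) + 9 / a = 1 / c + 9 / e := mul_left_cancel₀ n0 (by linear_combination e3 - e4)
  field_simp at k e3
  have k : (a + 9) * c * e = a * (e + 9 * c) := by exact_mod_cast k
  have e3 : n * ((a + 9) * (a + 1) - a * 16) = a * (a + 1) * (9216 * w) := by exact_mod_cast e3
  obtain rfl : e = a + 1 - c := by omega
  have k2 : (a + 9) * c = a * (a + 1) := mul_left_cancel₀ (sub_ne_zero.2 c1) (by linear_combination -k)
  have d : (a + 9) ∣ 72 := ⟨c - a + 8, by linear_combination -k2⟩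
  have l1 := Int.le_of_dvd (by norm_num) d
  have l2 := Int.le_of_dvd (by norm_num) ((neg_dvd).2 d)
  generalize hu : a + 9 = u at d l1 l2
  obtain rfl : a = u - 9 := by omega
  have l3 : -72 ≤ u := by omega
  clear k a0' a1' c0' e0' e4 n0 hu
  interval_cases u <;> omega

theorem num {n w a b c e a5 b5 c5 e5 aw bw cw ew r55 r5w rww r5d rdd : ℤ} (hn : n % 32 = 16) (hw : w % 2 = 1)
    (a0 : a ≠ 0) (b0 : b ≠ 0) (c0 : c ≠ 0) (e0 : e ≠ 0) (c1 : c ≠ 1) (e1 : e ≠ 1)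
    (g55 : 1 + a5 * a5 + b5 * b5 + c5 * c5 + e5 * e5 + r55 = 4) (gww : aw * aw + bw * bw + cw * cw + ew * ew + rww = 6)
    (g35 : 1 + a5 + b5 = 2) (g45 : b5 + c5 + e5 = 2) (g3w : aw + bw = 0) (g4w : bw + cw + ew = 0)
    (g5w : a5 * aw + b5 * bw + c5 * cw + e5 * ew + r5w = 2) (p5 : 0 ≤ r55)
    (cs1 : r5w ^ 2 ≤ r55 * rww) (cs2 : r5d ^ 2 ≤ r55 * rdd) (z3 : 1 + a + b = 0) (z4 : b + c + e = 0)
    (z5 : 1 + a5 * a + b5 * b + c5 * c + e5 * e + r5d = 0)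
    (e3 : (n : ℚ) * (1 + ((3 - 2 * a5 + 2 * aw : ℤ) : ℚ) ^ 2 / a + ((6 - 2 * b5 + 2 * bw : ℤ) : ℚ) ^ 2 / b) = ((9216 * w : ℤ) : ℚ))
    (e4 : (n : ℚ) * (((6 - 2 * b5 + 2 * bw : ℤ) : ℚ) ^ 2 / b + ((3 - 2 * c5 + 2 * cw : ℤ) : ℚ) ^ 2 / c +
      ((3 - 2 * e5 + 2 * ew : ℤ) : ℚ) ^ 2 / e) = ((9216 * w : ℤ) : ℚ)) : a = -13 ∨ c = 11 ∨ e = 11 := by
  obtain rfl : a5 = 1 - b5 := by omega
  obtain rfl : e5 = 2 - b5 - c5 := by omega
  obtain rfl : aw = -bw := by omega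
  obtain rfl : ew = -bw - cw := by omega
  obtain rfl : b = -(a + 1) := by omega
  have hb : ((-(a + 1) : ℤ) : ℚ) = -((a : ℚ) + 1) := by push_cast; ring
  rw [hb, div_neg] at e3 e4
  have one : (n : ℚ) * (1 + 1 / a - 36 / (a + 1)) = ((9216 * w : ℤ) : ℚ) → (n : ℚ) * (1 / c + 1 / e - 36 / (a + 1)) = ((9216 * w : ℤ) : ℚ) →
      False := fun e3 e4 => by
    have n0 : (n : ℚ) ≠ 0 := by exact_mod_cast (by omega : n ≠ 0)
    have a0' : (a : ℚ) ≠ 0 := by exact_mod_cast a0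
    have c0' : (c : ℚ) ≠ 0 := by exact_mod_cast c0
    have e0' : (e : ℚ) ≠ 0 := by exact_mod_cast e0
    have k : (1 : ℚ) + 1 / a = 1 / c + 1 / e := mul_left_cancel₀ n0 (by linear_combination e3 - e4)
    field_simp at k
    have k : (a + 1) * c * e = a * (e + c) := by exact_mod_cast k
    have k2 : c * e = a := mul_left_cancel₀ (by omega : a + 1 ≠ 0) (by rw [show e + c = a + 1 by omega] at k; linear_combination k)
    exact absurd (by linear_combination k2 - z4 : (c - 1) * (e - 1) = 0) (mul_ne_zero (by omega) (by omega))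
  have A := fun (c e : ℤ) => num0 (n := n) (w := w) (a := a) (c := c) (e := e) hn hw a0 (by omega)
  have bd : ∀ x : ℤ, x * x ≤ 3 → -1 ≤ x ∧ x ≤ 1 := fun x h => ⟨by nlinarith only [h], by nlinarith only [h]⟩
  have bd2 : ∀ x : ℤ, x * x ≤ 6 → -2 ≤ x ∧ x ≤ 2 := fun x h => ⟨by nlinarith only [h], by nlinarith only [h]⟩
  have q := fun x : ℤ => mul_self_nonneg x
  obtain ⟨l1, l2⟩ := bd b5 (by linarith only [g55, p5, q c5, q (1 - b5), q (2 - b5 - c5)])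
  obtain ⟨l3, l4⟩ := bd c5 (by linarith only [g55, p5, q b5, q (1 - b5), q (2 - b5 - c5)])
  have : b5 = 0 ∧ c5 = 1 ∧ r55 = 0 ∨ b5 = 1 ∧ r55 = 1 ∧ 0 ≤ c5 := by
    clear e3 e4 one A
    interval_cases b5 <;> interval_cases c5 <;> omega
  rcases this with ⟨rfl, rfl, rfl⟩ | ⟨rfl, rfl, l5⟩
  · have : r5d = 0 := by nlinarith only [cs2]
    omega
  have pw : 0 ≤ rww := by nlinarith only [cs1, sq_nonneg r5w]
  obtain ⟨m1, m2⟩ := bd bw (by linarith only [gww, pw, q cw, q (-bw - cw)])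
  obtain ⟨m3, m4⟩ := bd2 cw (by linarith only [gww, pw, q bw, q (-bw - cw)])
  obtain rfl : rww = 6 - (-bw * -bw + bw * bw + cw * cw + (-bw - cw) * (-bw - cw)) := by omega
  obtain rfl : r5w = 2 - ((1 - 1) * -bw + 1 * bw + c5 * cw + (2 - 1 - c5) * (-bw - cw)) := by omega
  interval_cases c5 <;> interval_cases bw <;> interval_cases cw <;> norm_num at cs1 <;> push_cast at e3 e4 <;>
    first
    | exact (one (by push_cast; linear_combination e3) (by push_cast; linear_combination e4)).elim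
    | exact (A c e c0 c1 e0 (by omega) (by push_cast; linear_combination e3) (by push_cast; linear_combination e4)).imp_right Or.inr
    | exact (A e c e0 e1 c0 (by omega) (by push_cast; linear_combination e3) (by push_cast; linear_combination e4)).imp_right Or.inl

theorem alg {I : Type*} [Fintype I] [DecidableEq I] (m3 m4 m5 mw d : I → ℤ) (o : I) {n w : ℤ} (hn : n % 32 = 16) (hw : w % 2 = 1)
    (g33 : ∑ i, m3 i * m3 i = 3) (g44 : ∑ i, m4 i * m4 i = 3) (g55 : ∑ i, m5 i * m5 i = 4) (gww : ∑ i, mw i * mw i = 6)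
    (g34 : ∑ i, m3 i * m4 i = 1) (g35 : ∑ i, m3 i * m5 i = 2) (g45 : ∑ i, m4 i * m5 i = 2) (g3w : ∑ i, m3 i * mw i = 0)
    (g4w : ∑ i, m4 i * mw i = 0) (g5w : ∑ i, m5 i * mw i = 2) (o3 : m3 o = 1) (o4 : m4 o = 0) (o5 : m5 o = 1)
    (ow : mw o = 0) (d0 : d o = 1) (dn : ∀ i, i ≠ o → 1 < d i) (z3 : ∑ i, m3 i * d i = 0) (z4 : ∑ i, m4 i * d i = 0)
    (z5 : ∑ i, m5 i * d i = 0)
    (e3 : (n : ℚ) * ∑ i, m3 i * ((3 * m3 i + 3 * m4 i - 2 * m5 i + 2 * mw i : ℤ) : ℚ) ^ 2 / d i = ((9216 * w : ℤ) : ℚ))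
    (e4 : (n : ℚ) * ∑ i, m4 i * ((3 * m3 i + 3 * m4 i - 2 * m5 i + 2 * mw i : ℤ) : ℚ) ^ 2 / d i = ((9216 * w : ℤ) : ℚ)) :
    ∃ i, i ≠ o ∧ (m3 i ≠ 0 ∨ m4 i ≠ 0) ∧ d i ≤ 15 := by
  have er : ∀ (m : I → ℤ) (j : I), ∑ i, m i * m i = 3 → m j ^ 2 = 1 → ∑ i ∈ Finset.univ.erase j, m i ^ 2 = 2 :=
    fun m j h e => by
      have := Finset.add_sum_erase Finset.univ (fun i => m i ^ 2) (Finset.mem_univ j)
      simp only [← sq] at h
      omega
  have bd : ∀ i, m4 i ^ 2 ≤ 3 := fun i => by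
    rw [← g44, sq]; exact Finset.single_le_sum (f := fun i => m4 i * m4 i) (fun j _ => mul_self_nonneg _) (Finset.mem_univ i)
  obtain ⟨A, B, Ao, Bo, AB, sA, sB, z, a4, b4⟩ : ∃ A B, A ≠ o ∧ B ≠ o ∧ A ≠ B ∧ m3 A ^ 2 = 1 ∧ m3 B ^ 2 = 1 ∧
      (∀ k, k ≠ o → k ≠ A → k ≠ B → m3 k = 0) ∧ m4 A = 0 ∧ m4 B = m3 B := by
    obtain ⟨A, hA, B, hB, AB, sA, sB, z⟩ := F3.two_sq _ m3 (er m3 o g33 (by rw [o3]; rfl))
    have Ao := Finset.ne_of_mem_erase hA
    have Bo := Finset.ne_of_mem_erase hB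
    have z : ∀ k, k ≠ o → k ≠ A → k ≠ B → m3 k = 0 := fun k h => z k (Finset.mem_erase.2 ⟨h, Finset.mem_univ _⟩)
    rw [← Finset.sum_subset (Finset.subset_univ {o, A, B}) fun k _ hk => by
      simp only [Finset.mem_insert, Finset.mem_singleton, not_or] at hk
      rw [z k hk.1 hk.2.1 hk.2.2, zero_mul], Finset.sum_insert (by simp [Ao.symm, Bo.symm]), Finset.sum_pair AB, o4] at g34
    have b1 := bd A
    have b2 := bd B
    have : (m4 A = 0 ∧ m4 B = m3 B) ∨ m4 B = 0 ∧ m4 A = m3 A := by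
      generalize m4 A = x at *
      generalize m4 B = y at *
      have : x ≤ 1 := by nlinarith
      have : -1 ≤ x := by nlinarith
      have : y ≤ 1 := by nlinarith
      have : -1 ≤ y := by nlinarith
      rcases sq_eq_one_iff.1 sA with e | e <;> rcases sq_eq_one_iff.1 sB with e' | e' <;> rw [e, e'] at g34 ⊢ <;> omega
    rcases this with h | h
    exacts [⟨A, B, Ao, Bo, AB, sA, sB, z, h⟩, ⟨B, A, Bo, Ao, AB.symm, sB, sA, fun k h1 h2 h3 => z k h1 h3 h2, h⟩]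
  obtain ⟨C, hC, E, hE, CE, sC, sE, y⟩ := F3.two_sq _ m4 (er m4 B g44 (by rw [b4, sB]))
  have CB := Finset.ne_of_mem_erase hC
  have EB := Finset.ne_of_mem_erase hE
  have nz : ∀ {k j}, m4 k ^ 2 = 1 → m4 j = 0 → k ≠ j := fun h h' e => by rw [e, h'] at h; norm_num at h
  have Co := nz sC o4
  have Eo := nz sE o4
  have CA := nz sC a4
  have EA := nz sE a4
  set T := Finset.univ \ {o, A, B, C, E} with hT
  have sp : ∀ {R : Type} [AddCommMonoid R] (f : I → R), ∑ i, f i = f o + f A + f B + f C + f E + ∑ i ∈ T, f i :=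
    fun f => by
      rw [← Finset.sum_sdiff (Finset.subset_univ {o, A, B, C, E}), Finset.sum_insert (by simp [Ao.symm, Bo.symm, Co.symm, Eo.symm]),
        Finset.sum_insert (by simp [AB, CA.symm, EA.symm]), Finset.sum_insert (by simp [CB.symm, EB.symm]), Finset.sum_pair CE]
      abel
  have t : ∀ k ∈ T, m3 k = 0 ∧ m4 k = 0 := fun k hk => by
    simp only [hT, Finset.mem_sdiff, Finset.mem_insert, Finset.mem_singleton, not_or] at hk
    exact ⟨z k hk.2.1 hk.2.2.1 hk.2.2.2.1, y k (Finset.mem_erase.2 ⟨hk.2.2.2.1, hk.1⟩) hk.2.2.2.2.1 hk.2.2.2.2.2⟩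
  have c3 := z C Co CA CB
  have f3 := z E Eo EA EB
  have t3 : ∀ f : I → ℤ, ∑ i ∈ T, m3 i * f i = 0 := fun f => Finset.sum_eq_zero fun k hk => by rw [(t k hk).1, zero_mul]
  have t4 : ∀ f : I → ℤ, ∑ i ∈ T, m4 i * f i = 0 := fun f => Finset.sum_eq_zero fun k hk => by rw [(t k hk).2, zero_mul]
  rw [sp, Finset.sum_eq_zero (s := T) fun k hk => by simp [(t k hk).1, (t k hk).2]] at e3 e4
  rw [sp] at g55 gww g35 g45 g3w g4w g5w z3 z4 z5
  simp only [t3, t4, o3, o4, o5, ow, d0, c3, f3, a4, b4] at g55 gww g35 g45 g3w g4w g5w z3 z4 z5 e3 e4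
  have nz : ∀ {s k}, s ^ 2 = 1 → k ≠ o → s * d k ≠ 0 ∧ s * d k ≠ 1 := fun h hk => by
    have := dn _ hk
    rcases sq_eq_one_iff.1 h with rfl | rfl <;> omega
  rw [sgn_div sA, sgn_div sB] at e3
  rw [sgn_div sB, sgn_div sC, sgn_div sE] at e4
  have fin : m3 A * d A = -13 ∨ m4 C * d C = 11 ∨ m4 E * d E = 11 → ∃ i, i ≠ o ∧ (m3 i ≠ 0 ∨ m4 i ≠ 0) ∧ d i ≤ 15 := by
    have sm : ∀ {s x y : ℤ}, s ^ 2 = 1 → s * x = y → -15 ≤ y → y ≤ 15 → s ≠ 0 ∧ x ≤ 15 := fun h e _ _ => by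
      rcases sq_eq_one_iff.1 h with rfl | rfl <;> omega
    rintro (k | k | k)
    · exact ⟨A, Ao, Or.inl (sm sA k (by omega) (by omega)).1, (sm sA k (by omega) (by omega)).2⟩
    · exact ⟨C, Co, Or.inr (sm sC k (by omega) (by omega)).1, (sm sC k (by omega) (by omega)).2⟩
    · exact ⟨E, Eo, Or.inr (sm sE k (by omega) (by omega)).1, (sm sE k (by omega) (by omega)).2⟩
  refine fin <| num (a := m3 A * d A) (b := m3 B * d B) (c := m4 C * d C) (e := m4 E * d E) (a5 := m3 A * m5 A) (b5 := m3 B * m5 B)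
    (c5 := m4 C * m5 C) (e5 := m4 E * m5 E) (aw := m3 A * mw A) (bw := m3 B * mw B) (cw := m4 C * mw C) (ew := m4 E * mw E)
    (r55 := ∑ i ∈ T, m5 i * m5 i) (r5w := ∑ i ∈ T, m5 i * mw i) (rww := ∑ i ∈ T, mw i * mw i) (r5d := ∑ i ∈ T, m5 i * d i)
    (rdd := ∑ i ∈ T, d i * d i) hn hw (nz sA Ao).1 (nz sB Bo).1 (nz sC Co).1 (nz sE Eo).1 (nz sC Co).2 (nz sE Eo).2
    (by linear_combination g55 + m5 A ^ 2 * sA + m5 B ^ 2 * sB + m5 C ^ 2 * sC + m5 E ^ 2 * sE)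
    (by linear_combination gww + mw A ^ 2 * sA + mw B ^ 2 * sB + mw C ^ 2 * sC + mw E ^ 2 * sE)
    (by linear_combination g35) (by linear_combination g45) (by linear_combination g3w) (by linear_combination g4w)
    (by linear_combination g5w + m5 A * mw A * sA + m5 B * mw B * sB + m5 C * mw C * sC + m5 E * mw E * sE)
    (Finset.sum_nonneg fun _ _ => mul_self_nonneg _) (by simpa only [sq] using Finset.sum_mul_sq_le_sq_mul_sq T m5 mw)
    (by simpa only [sq] using Finset.sum_mul_sq_le_sq_mul_sq T m5 d) (by linear_combination z3) (by linear_combination z4)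
    (by linear_combination z5 + m5 A * d A * sA + m5 B * d B * sB + m5 C * d C * sC + m5 E * d E * sE) ?_ ?_
  · rw [← e3, show 3 - 2 * (m3 A * m5 A) + 2 * (m3 A * mw A) = m3 A * (3 * m3 A + 3 * 0 - 2 * m5 A + 2 * mw A) by
      linear_combination -3 * sA, show 6 - 2 * (m3 B * m5 B) + 2 * (m3 B * mw B) =
      m3 B * (3 * m3 B + 3 * m3 B - 2 * m5 B + 2 * mw B) by linear_combination -6 * sB]
    norm_num
  · rw [← e4, show 3 - 2 * (m4 C * m5 C) + 2 * (m4 C * mw C) = m4 C * (3 * 0 + 3 * m4 C - 2 * m5 C + 2 * mw C) by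
      linear_combination -3 * sC, show 3 - 2 * (m4 E * m5 E) + 2 * (m4 E * mw E) =
      m4 E * (3 * 0 + 3 * m4 E - 2 * m5 E + 2 * mw E) by linear_combination -3 * sE,
      show 6 - 2 * (m3 B * m5 B) + 2 * (m3 B * mw B) =
      m3 B * (3 * m3 B + 3 * m3 B - 2 * m5 B + 2 * mw B) by linear_combination -6 * sB]
    norm_num

theorem two_le {I : Type*} [DecidableEq I] {m d : I → ℤ} (hd : ∀ i, 0 < d i) {T : Finset I} (h : ∑ i ∈ T, m i * d i = 0) {i : I}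
    (hi : i ∈ T) (hm : m i ≠ 0) : 2 ≤ ∑ i ∈ T, m i * m i := by
  obtain ⟨j, hj, hj'⟩ : ∃ j ∈ T.erase i, m j ≠ 0 := by
    by_contra! k
    rw [← Finset.add_sum_erase T _ hi, Finset.sum_eq_zero fun j hj => by rw [k j hj, zero_mul], add_zero] at h
    exact mul_ne_zero hm (hd i).ne' h
  have := Finset.single_le_sum (f := fun i => m i * m i) (fun j _ => mul_self_nonneg _) hj
  have a := mul_self_pos.2 hm
  have b := mul_self_pos.2 hj'
  rw [← Finset.add_sum_erase T _ hi]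
  omega

theorem blk {I : Type*} [Fintype I] [DecidableEq I] {m d : I → ℤ} (hd : ∀ i, 0 < d i) (T : Finset I) (h : ∑ i ∈ T, m i * d i = 0)
    (h0 : ∑ i, m i * d i = 0) (h3 : ∑ i, m i * m i = 3) {i : I} (hi : i ∈ T) (hm : m i ≠ 0) {j : I} (hj : m j ≠ 0) : j ∈ T := by
  by_contra n
  rw [← Finset.sum_add_sum_compl T] at h0 h3
  have a := two_le hd h hi hm
  have b := two_le hd (T := Tᶜ) (by omega) (Finset.mem_compl.2 n) hj
  omega

end H08.Wo
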