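import Mathlib
import Cfsg.Agent.H08.Wo1
import Cfsg.Agent.H01.GL23b
import Cfsg.Agent.S0942
import Cfsg.Agent.H21.Height
import Cfsg.Agent.H05.FrobeniusSchur
import Cfsg.Agent.H05.Burnside
import Cfsg.Agent.H02.PPrimeCore

/-!
# Wong's lemma (namespace `H08.Wo`)

`W2 t π`: `π` maps `C(t)` onto `GL(2,3)` with kernel of odd order inverted by the non-central involutions.
`W2.ker_eq`: in a simple group with one class of involutions the kernel is trivial.
-/

set_option autoImplicit false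
set_option linter.unusedSectionVars false
open Cfsg BG Subgroup H05 H06 H08 H01.G23 ComplexConjugate

namespace H08.Wo
universe u
variable {G : Type u} [Group G] [Finite G] {t g u v : G} {π : C_[t] →* K} {x y : C_[t]}

/-- reflections -/
def Rf (k : K) : Prop := k * k = 1 ∧ k ≠ 1 ∧ k ≠ z
instance : DecidablePred Rf := fun _ => inferInstanceAs (Decidable (_ ∧ _))

theorem k1 : ∀ k : K, det k = 1 → k ^ 16 = 1 → k = 1 ∨ k = z ∨ k * k = z ∧ ∃ r, Rf r ∧ Rf (r * k) := by decide +kernel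
theorem k2 : (∑ l, if Rf l then ∑ k, if Rf k then ph 0 2 2 (k * l) else 0 else 0) = 192 ∧
    (∑ l, if Rf l then ∑ k, if Rf k then ph 0 (-2) 2 (k * l) else 0 else 0) = 192 := by decide +kernel
theorem k3 (p q r : ℤ) (k : K) (h : k = z ∨ Rf k) : ph p q r (z * k) = 0 ∧ ph p q r (k * z) = 0 := by
  have : ∀ k : K, k = z ∨ Rf k → tb 0 1 1 1 0 1 0 (z * k) = 0 ∧ tb 0 1 1 1 0 1 0 (k * z) = 0 := by decide +kernel
  have e : ∀ k : K, tb 0 1 1 1 0 1 0 k = 0 → ph p q r k = 0 := fun k h => by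
    unfold ph tb at *; split_ifs at h ⊢ <;> simp_all
  exact ⟨e _ (this k h).1, e _ (this k h).2⟩
theorem k4 : Rf s ∧ ¬ Rf z ∧ ∀ k : K, k ^ 16 = 1 ∨ k ^ 6 = 1 := by decide +kernel

/-- the determinant one subgroup -/
def SK : Subgroup K where
  carrier := {k | det k = 1}
  one_mem' := by decide +kernel
  mul_mem' := fun {x y} => by simp only [Set.mem_setOf_eq]; revert x y; decide +kernel
  inv_mem' := fun {x} => by simp only [Set.mem_setOf_eq]; revert x; decide +kernel

theorem card_SK : Nat.card SK = 24 := by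
  change Nat.card {k : K // det k = 1} = 24
  rw [Nat.card_eq_fintype_card]; decide +kernel

/-- the hypothesis of Wong's lemma -/
structure W2 (t : G) (π : C_[t] →* K) : Prop where
  ot : orderOf t = 2
  sj : Function.Surjective π
  od : Odd (Nat.card π.ker)
  pz : π ⟨t, mem_cent1.2 rfl⟩ = z
  inv : ∀ x, Rf (π x) → x * x = 1

/-- pull back of an integer valued function -/
def th (π : C_[t] →* K) (φ : K → ℤ) : C_[t] → ℂ := fun x => φ (π x)

namespace W2
variable (h : W2 t π)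
include h

theorem tt : t * t = 1 := mul_self_of_orderOf h.ot

theorem card_C : Nat.card C_[t] = Nat.card π.ker * 48 := by
  rw [← π.ker.card_mul_index, index_ker, MonoidHom.range_eq_top.2 h.sj, card_top, card_K]

theorem one {k : ℕ} (e : π x = 1) (e2 : x ^ 2 ^ k = 1) : x = 1 :=
  orderOf_eq_one_iff.1 (Nat.eq_one_of_dvd_coprimes ((Nat.coprime_two_right.2 h.od).pow_right k) (orderOf_dvd_natCard π.ker e)
    (orderOf_dvd_of_pow_eq_one e2))

theorem tk (e : π x = z) : π (⟨t, mem_cent1.2 rfl⟩ * x) = 1 := by rw [map_mul, h.pz, e, sd0.2.2.2.1]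

theorem eqz (e : π x = z) : (x : G) ^ Nat.card π.ker = t := by
  have := congrArg Subtype.val (orderOf_dvd_iff_pow_eq_one.1 (orderOf_dvd_natCard π.ker (h.tk e)))
  obtain ⟨k, hk⟩ := h.od
  have c : Commute t x := (mem_cent1.1 x.2).symm
  rw [coe_pow, coe_mul, c.mul_pow, hk, pow_succ t, pow_mul t, sq t, h.tt, one_pow, one_mul] at this
  rw [hk, eq_inv_of_mul_eq_one_right this, inv_eq_of_mul_eq_one_right h.tt]

theorem eqt {k : ℕ} (e : π x = z) (e2 : x ^ 2 ^ (k + 1) = 1) : (x : G) = t := by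
  have c : Commute (⟨t, mem_cent1.2 rfl⟩ : C_[t]) x := Subtype.ext (mem_cent1.1 x.2).symm
  have := congrArg Subtype.val (h.one (k := k + 1) (h.tk e) (by
    rw [c.mul_pow, e2, mul_one, pow_succ', pow_mul, sq]
    exact Subtype.ext (by simp [h.tt])))
  rw [eq_inv_of_mul_eq_one_right this, inv_eq_of_mul_eq_one_right h.tt]

theorem ti (hu : t ∈ zpowers u) (hg : t ∈ zpowers (g * u * g⁻¹)) : g ∈ C_[t] := by
  obtain ⟨k, e⟩ := mem_zpowers_iff.1 hu
  refine mem_cent1.2 (mul_inv_eq_iff_eq_mul.1 (invol_eq_of_isCyclic (by rw [BG.orderOf_conj, h.ot]) h.ot ?_ hg))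
  rw [← e, ← conj_zpow]
  exact zpow_mem (mem_zpowers _) k

theorem inv_mem (hu : u * u = 1) (hv : v * v = 1) (e : t ∈ zpowers (u * v)) : u ∈ C_[t] ∧ v ∈ C_[t] := by
  have k : u * (u * v) * u⁻¹ = (u * v)⁻¹ := by
    rw [← mul_assoc, hu, one_mul, mul_inv_rev, inv_eq_of_mul_eq_one_right hv]
  have m := h.ti e (by rwa [k, zpowers_inv])
  exact ⟨m, (mul_mem_cancel_left m).1 (h.ti e (by rwa [mul_inv_cancel_right]))⟩

theorem o1 (e : orderOf (x : G) = 2) : π x = z ∨ Rf (π x) := by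
  rw [orderOf_coe, orderOf_eq_two_iff'] at e
  exact or_iff_not_imp_left.2 fun n => ⟨by rw [← map_mul, e.1, map_one], fun k => e.2 (h.one (k := 1) k (by simpa [sq] using e.1)), n⟩

theorem o2 (e : Rf (π x)) : orderOf (x : G) = 2 := by
  rw [orderOf_coe, orderOf_eq_two_iff']
  exact ⟨h.inv x e, fun k => e.2.1 (by rw [k, map_one])⟩

theorem inverts (e : Rf (π x)) (hy : π y = 1) : x * y * x⁻¹ = y⁻¹ := by
  have := h.inv (x * y) (by rwa [map_mul, hy, mul_one])
  rw [inv_eq_of_mul_eq_one_right (h.inv x e)]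
  exact eq_inv_of_mul_eq_one_left (by rw [← this]; group)

theorem core (hu : t ∈ zpowers u) (hc : ∀ y : C_[t], π y = 1 → y * u = u * y) (hy : π y = 1) :
    (y : G) ∈ centralizerPPrimeCore 2 u := by
  refine H02.le_pPrimeCoreOf (N := π.ker.map (C_[t]).subtype) (H := C_[u]) ?_ ?_ ?_ ⟨y, hy, rfl⟩
  · rintro _ ⟨y, hy, rfl⟩; exact mem_cent1.2 (hc y hy)
  · refine le_trans (fun g hg => h.ti hu (by rwa [mem_cent1.1 hg, mul_inv_cancel_right])) ?_
    exact le_norm_iff.2 (by
      rintro g hg _ ⟨y, hy, rfl⟩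
      exact ⟨_, (inferInstance : π.ker.Normal).conj_mem y hy ⟨g, hg⟩, rfl⟩)
  · rw [card_map_of_injective (subtype_injective _)]; exact Nat.coprime_two_right.2 h.od

variable [Fintype G] [Fintype C_[t]] {φ ψ : K → ℤ}

omit h in
theorem th_gen (c : GC φ) : IsGeneralizedCharacter C_[t] (th π φ) := H05.Cfsg.IsGeneralizedCharacter.comp c π

theorem supp (c : ∀ x, φ x ≠ 0 → z ∈ zpowers x) (x : C_[t]) (n : x.1 ∉ {u | t ∈ zpowers u}) : th π φ x = 0 :=
  Int.cast_eq_zero.2 (by_contra fun e => n (by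
    obtain ⟨k, hk⟩ := mem_zpowers_iff.1 (c _ e)
    have := h.eqz (x := x ^ k) (by rwa [map_zpow])
    exact (congrArg (· ∈ zpowers (x : G)) this).mp (pow_mem (zpow_mem (mem_zpowers (x : G)) k) _)))

theorem gram' (c : ∀ x, φ x ≠ 0 → z ∈ zpowers x) (c' : ∀ x, ψ x ≠ 0 → z ∈ zpowers x) (k : GC ψ) {n : ℤ}
    (e : ∑ x, φ x * ψ x = 48 * n) : classInner (indFun C_[t] (th π φ)) (indFun C_[t] (th π ψ)) = n := by
  rw [classInner_indFun_of_ti _ _ _ _ _ (th_gen k).isClassFunction (h.supp c') (h.supp c) fun _ a _ b => h.ti a b]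
  refine (classInner_comp_of_surjective (φ := fun k => (φ k : ℂ)) (ψ := fun k => (ψ k : ℂ)) π h.sj).trans ?_
  simp only [classInner, card_K, map_intCast, ← Int.cast_mul, ← Int.cast_sum, e]
  push_cast; ring

theorem pair (hG : ∀ u, orderOf u = 2 → IsConj t u) {p q r : ℤ}
    (e : (∑ l, if Rf l then ∑ k, if Rf k then ph p q r (k * l) else 0 else 0) = 192) :
    pairSum t t (indFun C_[t] (th π (ph p q r))) = Nat.card G * (9216 * Nat.card π.ker ^ 3) := by
  classical
  have k : ∀ u v : G, orderOf u = 2 → orderOf v = 2 → ¬ (u ∈ C_[t] ∧ v ∈ C_[t]) →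
      extendByZero C_[t] (th π (ph p q r)) (u * v) = 0 :=
    fun u v hu hv n => by_contra fun e => by
      obtain ⟨m, e⟩ := extendByZero_ne_zero _ e
      exact n (h.inv_mem (mul_self_of_orderOf hu) (mul_self_of_orderOf hv) (by_contra fun q => e (h.supp (ph_supp _ _ _) _ q)))
  have E : ∑ v with orderOf v = 2, ∑ u with orderOf u = 2, extendByZero C_[t] (th π (ph p q r)) (u * v) =
      Nat.card π.ker * (Nat.card π.ker * (192 : ℤ)) := by
    rw [← e]
    simp only [Finset.sum_filter]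
    push_cast
    rw [Finset.mul_sum _ _ (Nat.card π.ker : ℂ)]
    rw [← sum_comp_of_surjective π h.sj]
    refine (Fintype.sum_of_injective Subtype.val Subtype.val_injective _ _ (fun v n => ?_) fun v => ?_).symm
    · exact ite_eq_right_iff.2 fun hv => Finset.sum_eq_zero fun u _ => ite_eq_right_iff.2 fun hu =>
        k u v hu hv fun q => n ⟨⟨v, q.2⟩, rfl⟩
    have ex : ∀ u : C_[t], extendByZero C_[t] (th π (ph p q r)) (u * v) = ph p q r (π u * π v) := fun u => by
      rw [← coe_mul, extendByZero_coe, th, map_mul]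
    by_cases hv : Rf (π v)
    · rw [if_pos hv, if_pos (h.o2 hv), ← sum_comp_of_surjective π h.sj]
      refine Fintype.sum_of_injective Subtype.val Subtype.val_injective _ _ (fun u n => ite_eq_right_iff.2 fun hu =>
          k u _ hu (h.o2 hv) fun q => n ⟨⟨u, q.1⟩, rfl⟩) fun u => ?_
      by_cases hu : Rf (π u)
      · rw [if_pos hu, if_pos (h.o2 hu), ex]
      · rw [if_neg hu]
        refine (ite_eq_right_iff.2 fun o => ?_).symm
        rw [ex, (h.o1 o).resolve_right hu, (k3 p q r _ (Or.inr hv)).1, Int.cast_zero]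
    · rw [if_neg hv, mul_zero]
      refine (ite_eq_right_iff.2 fun o => Finset.sum_eq_zero fun u _ => ite_eq_right_iff.2 fun hu => ?_).symm
      by_cases m : u ∈ C_[t]
      · rw [ex ⟨u, m⟩, (h.o1 o).resolve_right hv, (k3 p q r _ (h.o1 (x := ⟨u, m⟩) hu)).2, Int.cast_zero]
      · exact k u v hu o fun q => m q.1
  rw [pairSum_indFun, pairSum_eq_invols h.ot hG, E, ← (C_[t]).card_mul_index, h.card_C]
  push_cast; ring

end W2

theorem W2.small [IsSimpleGroup G] (h : W2 t π) (hG : ∀ u, orderOf u = 2 → IsConj t u) (hc : Nat.card G % 32 = 16)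
    {M : Ideal AlgInt} (hM : IsPModular 2 M) :
    ∃ χ ∈ principalBlock M G, χ.1 ≠ 1 ∧ ∃ d : ℕ, d ≤ 15 ∧ χ.1 1 = d := by
  classical
  have := Fintype.ofFinite G
  have := Fintype.ofFinite C_[t]
  have := hM.2.1
  have nc : ∀ φ : G →* ℂˣ, φ = 1 := fun φ => by
    refine (φ.normal_ker.eq_bot_or_eq_top.resolve_left fun e => ?_) |> MonoidHom.ker_eq_top_iff.1
    obtain ⟨x, hx⟩ := h.sj a
    obtain ⟨y, hy⟩ := h.sj s
    have := (MonoidHom.ker_eq_bot_iff φ).1 e (a₁ := x * y) (a₂ := y * x) (by simp only [map_mul, mul_comm])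
    have := congrArg π (Subtype.ext this : x * y = y * x)
    rw [map_mul, map_mul, hx, hy] at this
    exact absurd this (by decide +kernel)
  have ex : ∀ {φ}, GC φ → ∃ m : IrrCharacter G → ℤ, ∀ χ : IrrCharacter G, classInner (indFun C_[t] (th π φ)) χ = m χ :=
    fun c => (isGeneralizedCharacter_indFun _ (W2.th_gen c)).exists_int_coeff.imp fun _ => And.left
  obtain ⟨c3, c4, c5, cw⟩ := gc_ph
  obtain ⟨m3, h3⟩ := ex c3
  obtain ⟨m4, h4⟩ := ex c4
  obtain ⟨m5, h5⟩ := ex c5
  obtain ⟨mw, hw⟩ := ex cw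
  choose d d0 hd using fun χ : IrrCharacter G => χ.2.exists_degree_pos
  let o : IrrCharacter G := ⟨1, isIrrCharacter_one⟩
  have gr : ∀ {p q r p' q' r' n : ℤ} {m m' : IrrCharacter G → ℤ}, GC (ph p q r) → GC (ph p' q' r') →
      (∀ χ : IrrCharacter G, classInner (indFun C_[t] (th π (ph p q r))) χ = m χ) →
      (∀ χ : IrrCharacter G, classInner (indFun C_[t] (th π (ph p' q' r'))) χ = m' χ) →
      ∑ x, ph p q r x * ph p' q' r' x = 48 * n → ∑ i, m i * m' i = n := fun c c' a b e => by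
    have := (isGeneralizedCharacter_indFun _ (W2.th_gen (π := π) c)).classInner_eq_sum_int
      (isGeneralizedCharacter_indFun _ (W2.th_gen c')) a b
    rw [h.gram' (ph_supp _ _ _) (ph_supp _ _ _) c' e] at this
    exact_mod_cast this.symm
  have k0 : (Nat.card π.ker : ℂ) ≠ 0 := natCard_ne_zero _
  have fr : ∀ (φ) (χ : IrrCharacter G), classInner (indFun C_[t] (th π φ)) χ =
      ((Nat.card π.ker : ℂ) * 48)⁻¹ * ∑ x : C_[t], φ (π x) * conj (χ.1 x) :=
    fun φ χ => by rw [frobenius_reciprocity _ _ _ χ.2.isClassFunction, classInner, h.card_C]; push_cast; rfl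
  have tr : ∀ {φ : K → ℤ} {n : ℤ} {m : IrrCharacter G → ℤ},
      (∀ χ : IrrCharacter G, classInner (indFun C_[t] (th π φ)) χ = m χ) → ∑ x, φ x = 48 * n → m o = n :=
    fun {φ n m} a e => by
      have := (a o).symm.trans (fr φ o)
      simp only [o, Pi.one_apply, map_one, mul_one] at this
      rw [sum_comp_of_surjective π h.sj (fun k => (φ k : ℂ)), ← Int.cast_sum, e] at this
      exact_mod_cast this.trans (by push_cast; field_simp : _ = (n : ℂ))
  have va : ∀ (p q r : ℤ) (y : G), ¬ 2 ∣ orderOf y → indFun C_[t] (th π (ph p q r)) y = 0 := fun p q r y hy =>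
    indFun_eq_zero_of_forall _ _ _ fun x hx => h.supp (ph_supp _ _ _) _ fun e => hy (by
      have := orderOf_dvd_of_mem_zpowers e
      rwa [h.ot, ← BG.orderOf_conj x, show x * (x⁻¹ * y * x) * x⁻¹ = y by group] at this)
  have dg : ∀ {p q r : ℤ} {m : IrrCharacter G → ℤ}, GC (ph p q r) →
      (∀ χ : IrrCharacter G, classInner (indFun C_[t] (th π (ph p q r))) χ = m χ) → ∑ i, m i * d i = 0 :=
    fun {p q r m} c a => by
      have := congrFun (isGeneralizedCharacter_indFun _ (W2.th_gen (π := π) c)).isClassFunction.eq_sum 1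
      rw [va _ _ _ 1 (by simp)] at this
      simp only [a, Finset.sum_apply, Pi.smul_apply, hd, smul_eq_mul] at this
      exact_mod_cast this.symm
  obtain ⟨B, hB⟩ : ∃ B : Finset (IrrCharacter G), ∀ χ, χ ∈ B ↔ χ ∈ principalBlock M G :=
    ⟨(principalBlock M G).toFinset, fun _ => Set.mem_toFinset⟩
  have db : ∀ {p q r : ℤ} {m : IrrCharacter G → ℤ},
      (∀ χ : IrrCharacter G, classInner (indFun C_[t] (th π (ph p q r))) χ = m χ) → ∑ i ∈ B, m i * d i = 0 :=
    fun {p q r m} a => by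
      have : ∑ i ∈ B, (m i : ℂ) * d i = 0 := by
        simp only [← a, ← hd, classInner, Finset.mul_sum, Finset.sum_mul]
        rw [Finset.sum_comm]
        refine Finset.sum_eq_zero fun y _ => ?_
        by_cases hy : 2 ∣ orderOf y
        · have := H20.Cfsg.IsPBlock.weak_block_orth hM (H20.isPBlock_principalBlock (G := G)) (x := 1) (by simp) hy
          rw [finsum_mem_eq_finite_toFinset_sum _ (Set.toFinite _), show (Set.toFinite _).toFinset = B from
            Finset.ext fun χ => by rw [hB, Set.Finite.mem_toFinset]] at this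
          simp only [mul_assoc, ← Finset.mul_sum, mul_comm (conj _), this, mul_zero]
        · simp only [va _ _ _ y hy, zero_mul, mul_zero, Finset.sum_const_zero]
      exact_mod_cast this
  obtain ⟨⟨g1, g2, g3, g4, g5, g6, g7, g8, g9, g10⟩, ⟨t1, t2, t3, t4⟩, -⟩ := gram
  have dp : ∀ i, (0 : ℤ) < d i := fun i => by exact_mod_cast d0 i
  have b3 : ∀ j, m3 j ≠ 0 → j ∈ B := fun j => blk dp B (db h3) (dg c3 h3) (gr c3 c3 h3 h3 g1)
    ((hB o).2 H20.one_mem_principalBlock) (by rw [tr h3 t1]; exact one_ne_zero)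
  have b4 : ∀ j, m4 j ≠ 0 → j ∈ B := fun j => by
    obtain ⟨i, -, hi⟩ := Finset.exists_ne_zero_of_sum_ne_zero ((gr c3 c4 h3 h4 g5).trans_ne one_ne_zero)
    exact blk dp B (db h4) (dg c4 h4) (gr c4 c4 h4 h4 g2) (b3 i (left_ne_zero_of_mul hi)) (right_ne_zero_of_mul hi)
  have vt : ∀ χ ∈ B, χ.1 t = (3 * m3 χ + 3 * m4 χ - 2 * m5 χ + 2 * mw χ : ℤ) := fun χ hχ => by
    have : ((3 * m3 χ + 3 * m4 χ - 2 * m5 χ + 2 * mw χ : ℤ) : ℂ) = conj (χ.1 t) := by
      push_cast
      rw [← h3, ← h4, ← h5, ← hw, fr, fr, fr, fr]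
      calc _ = ((Nat.card π.ker : ℂ) * 48)⁻¹ * ∑ x : C_[t], ((3 * ph 0 2 2 (π x) + 3 * ph 0 (-2) 2 (π x) - 2 * ph 4 0 2 (π x) +
              2 * ph 4 0 (-4) (π x) : ℤ) : ℂ) * conj (χ.1 x) := by
            simp only [Finset.mul_sum, ← Finset.sum_add_distrib, ← Finset.sum_sub_distrib]
            exact Finset.sum_congr rfl fun x _ => by push_cast; ring
        _ = ((Nat.card π.ker : ℂ) * 48)⁻¹ * ∑ x : C_[t], if π x = z then 48 * conj (χ.1 t) else 0 := by
            refine congrArg _ (Finset.sum_congr rfl fun x _ => ?_)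
            rw [gram.2.2]
            split_ifs with e
            · rw [← Cfsg.Agent.S0942.result 2 M hM t ⟨1, h.ot⟩ _ (h.core (mem_zpowers t) (fun y _ => mem_cent1.1 y.2) (h.tk e)) χ
                ((hB χ).1 hχ), coe_mul, ← mul_assoc, h.tt, one_mul]
              push_cast; rfl
            · simp
        _ = _ := by
            rw [sum_comp_of_surjective π h.sj fun k => if k = z then 48 * conj (χ.1 t) else 0]
            simp only [Finset.sum_ite_eq', Finset.mem_univ, if_true]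
            field_simp
    rw [← map_intCast (starRingEnd ℂ), this, Complex.conj_conj]
  have pr : ∀ {p q r : ℤ} {m : IrrCharacter G → ℤ}, (∀ j, m j ≠ 0 → j ∈ B) →
      (∀ χ : IrrCharacter G, classInner (indFun C_[t] (th π (ph p q r))) χ = m χ) →
      (∑ l, if Rf l then ∑ k, if Rf k then ph p q r (k * l) else 0 else 0) = 192 →
      ((Nat.card G : ℤ) : ℚ) * ∑ i, m i * ((3 * m3 i + 3 * m4 i - 2 * m5 i + 2 * mw i : ℤ) : ℚ) ^ 2 / (d i : ℤ) =
        ((9216 * (Nat.card π.ker : ℤ) ^ 3 : ℤ) : ℚ) :=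
    fun {p q r m} hb a e => by
      have := h.pair hG e
      rw [pairSum_eq_sum (indFun_isClassFunction _ _), sq, mul_assoc] at this
      have := mul_left_cancel₀ (natCard_ne_zero G) this
      simp only [a, hd] at this
      apply Rat.cast_injective (α := ℂ)
      push_cast at this ⊢
      rw [← this]
      refine congrArg _ (Finset.sum_congr rfl fun i _ => ?_)
      by_cases k : m i = 0
      · simp [k]
      · rw [vt i (hb i k)]; push_cast; ring
  obtain ⟨i, io, hi, di⟩ := alg m3 m4 m5 mw (fun i => d i) o (n := Nat.card G) (w := (Nat.card π.ker : ℤ) ^ 3) (by omega)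
    (Int.odd_iff.1 ((Int.odd_coe_nat _).2 h.od).pow) (gr c3 c3 h3 h3 g1)
    (gr c4 c4 h4 h4 g2) (gr c5 c5 h5 h5 g3) (gr cw cw hw hw g4) (gr c3 c4 h3 h4 g5) (gr c3 c5 h3 h5 g6) (gr c4 c5 h4 h5 g7)
    (gr c3 cw h3 hw g8) (gr c4 cw h4 hw g9) (gr c5 cw h5 hw g10) (tr h3 t1) (tr h4 t2) (tr h5 t3) (tr hw t4)
    (by have := hd o; simp only [o, Pi.one_apply] at this; exact_mod_cast this.symm)
    (fun i n => by
      have := d0 i
      have : d i ≠ 1 := fun e => n (Subtype.ext (by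
        obtain ⟨φ, k⟩ := i.2.isCharacter.exists_monoidHom (by rw [hd, e]; simp)
        rw [k, nc φ]; rfl))
      omega) (dg c3 h3) (dg c4 h4) (dg c5 h5) (pr b3 h3 k2.1) (pr b4 h4 k2.2)
  exact ⟨i, (hB i).1 (hi.elim (b3 i) (b4 i)), fun e => io (Subtype.ext e), d i, by exact_mod_cast di, hd i⟩

theorem W2.ker_eq [IsSimpleGroup G] (h : W2 t π) (hG : ∀ u, orderOf u = 2 → IsConj t u) (hc : Nat.card G % 32 = 16) :
    π.ker = ⊥ := by
  classical
  obtain ⟨M, hM⟩ := H21.exists_isPModular Nat.prime_two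
  obtain ⟨χ, hχ, χ1, d, hd, e⟩ := h.small hG hc hM
  obtain ⟨Q, c8⟩ : ∃ Q : Subgroup (SK.comap π), Nat.card Q = 2 ^ 3 := Sylow.exists_subgroup_card_pow_prime 2 (by
    have a := (SK.comap π).card_mul_index
    have b := SK.card_mul_index
    rw [card_SK, card_K] at b
    rw [index_comap_of_surjective _ h.sj, h.card_C, show SK.index = 2 by omega] at a
    omega)
  have hq : ∀ q : Q, q ≠ 1 → t ∈ zpowers (q.1.1 : G) ∧ ∀ y : C_[t], π y = 1 → y * (q.1.1 : G) = q.1.1 * y := fun q n => by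
    have p8 : q.1.1 ^ 2 ^ 3 = 1 := by rw [← c8]; exact congrArg (fun q : Q => q.1.1) pow_card_eq_one'
    rcases k1 (π q.1.1) q.1.2 (by rw [← map_pow, show 16 = 2 ^ 3 * 2 by rfl, pow_mul, p8, one_pow, map_one]) with
      k | k | ⟨k, r, r1, r2⟩
    · exact absurd (Subtype.ext (Subtype.ext (h.one k p8))) n
    · rw [h.eqt k p8]; exact ⟨mem_zpowers t, fun y _ => mem_cent1.1 y.2⟩
    obtain ⟨x, rfl⟩ := h.sj r
    refine ⟨(congrArg (· ∈ zpowers (q.1.1 : G)) (h.eqt (x := q.1.1 * q.1.1) (k := 1) (by rwa [map_mul])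
      (by rw [← sq, ← pow_mul]; exact p8))).mp (mul_mem (mem_zpowers _) (mem_zpowers _)), fun y hy => ?_⟩
    have a := (h.inverts (x := x * q.1.1) (by rwa [map_mul]) hy).trans (h.inverts r1 hy).symm
    have : y * q.1.1 = q.1.1 * y := by
      calc y * q.1.1 = x⁻¹ * (x * y * x⁻¹) * x * q.1.1 := by group
        _ = _ := by rw [← a]; group
    exact congrArg Subtype.val this
  let ι : Q × π.ker →* G := MonoidHom.noncommCoprod ((C_[t]).subtype.comp ((SK.comap π).subtype.comp Q.subtype))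
    ((C_[t]).subtype.comp π.ker.subtype) fun q y => by
      by_cases n : q = 1
      · rw [n, map_one]; exact Commute.one_left _
      · exact ((hq q n).2 y y.2).symm
  have := Fintype.ofFinite Q
  have := Fintype.ofFinite π.ker
  have cA := χ.2.isCharacter.comp ((C_[t]).subtype.comp π.ker.subtype)
  obtain ⟨m, hm, hs⟩ := cA.exists_nat_coeff
  have m8 : ∀ ψ : IrrCharacter π.ker, ψ.1 ≠ 1 → 8 ∣ m ψ := fun ψ n => by
    obtain ⟨k, hk⟩ := (χ.2.isCharacter.comp ι).exists_classInner_eq_nat (ψ.2.isCharacter.comp (MonoidHom.snd Q π.ker))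
    rw [classInner, Fintype.sum_prod_type, Finset.sum_eq_single 1 (fun q _ n1 => ?_) (by simp), Nat.card_prod, c8] at hk
    · refine ⟨k, ?_⟩
      have := hm ψ
      rw [classInner] at this
      have : (m ψ : ℂ) = 8 * k := by
        rw [← this, ← hk]
        simp only [ι, MonoidHom.noncommCoprod_apply, map_one, one_mul, MonoidHom.coe_snd]
        push_cast
        field_simp
      exact_mod_cast this
    · have : ∀ y : π.ker, χ.1 (ι (q, y)) = χ.1 q.1.1 := fun y => Cfsg.Agent.S0942.result 2 M hM _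
        (IsPGroup.iff_orderOf.1 (IsPGroup.of_card c8) q |>.imp fun k hk => by rwa [orderOf_coe, orderOf_coe, orderOf_coe]) _
        (h.core (hq q n1).1 (hq q n1).2 y.2) χ hχ
      simp only [this, ← Finset.mul_sum, ← map_sum, MonoidHom.coe_snd, ψ.2.sum_eq_zero n, map_zero, mul_zero]
  obtain ⟨x, hx⟩ := h.sj s
  have re : ∀ y : π.ker, conj (χ.1 y.1.1) = χ.1 y.1.1 := fun y => by
    rw [← χ.2.apply_inv, ← coe_inv, ← h.inverts (hx ▸ k4.1) y.2]
    exact χ.2.isClassFunction _ _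
  have mc : ∀ ψ : IrrCharacter π.ker, m (conjIrr ψ) = m ψ := fun ψ => by
    have a := classInner_conj_conj (φ := fun y : π.ker => χ.1 y.1.1) (ψ := ψ.1)
    simp only [re] at a
    have : (m (conjIrr ψ) : ℂ) = m ψ := by
      rw [← hm]
      exact a.trans ((classInner_conj_symm _ _).symm.trans ((congrArg _ (hm ψ)).trans (map_natCast _ _)))
    exact_mod_cast this
  choose δ δ0 hδ using fun ψ : IrrCharacter π.ker => ψ.2.exists_degree_pos
  have sm : ∑ ψ, m ψ * δ ψ = d := by
    have := congrFun hs 1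
    simp only [map_one, e, Finset.sum_apply, Pi.smul_apply, hδ, smul_eq_mul] at this
    exact_mod_cast this.symm
  have m0 : ∀ ψ : IrrCharacter π.ker, ψ.1 ≠ 1 → m ψ = 0 := fun ψ n => by
    have ne : conjIrr ψ ≠ ψ := fun k => ψ.2.conj_ne_of_odd h.od n (congrArg Subtype.val k)
    have a := Finset.sum_le_sum_of_subset (f := fun ψ => m ψ * δ ψ) (Finset.subset_univ {conjIrr ψ, ψ})
    rw [Finset.sum_pair ne, sm, mc] at a
    have b := Nat.le_mul_of_pos_right (m ψ) (δ0 ψ)
    have c := Nat.le_mul_of_pos_right (m ψ) (δ0 (conjIrr ψ))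
    have := m8 ψ n
    omega
  refine eq_bot_iff.2 fun y hy => mem_bot.2 (Subtype.ext (mem_bot.1 (χ.2.charKer_eq_bot_of_simple χ1 ▸
    χ.2.isCharacter.mem_charKer.2 ?_)))
  refine (congrFun hs ⟨y, hy⟩).trans (Eq.trans ?_ (congrFun hs 1).symm)
  simp only [Finset.sum_apply, Pi.smul_apply]
  refine Finset.sum_congr rfl fun ψ _ => ?_
  by_cases n : ψ.1 = 1
  · rw [n]; rfl
  · simp [m0 ψ n]

theorem W2.st [IsSimpleGroup G] (h : W2 t π) (hG : ∀ u, orderOf u = 2 → IsConj t u) (hc : Nat.card G % 32 = 16) :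
    ∃ f : K →* G, St f :=
  exists_st h.ot ((MulEquiv.ofBijective π ⟨(MonoidHom.ker_eq_bot_iff π).1 (h.ker_eq hG hc), h.sj⟩).trans equiv)

end H08.Wo
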