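import Cfsg.Agent.H28.Lp0

/-!
# Part K of the local analysis of `²E₆(2)`: subsystem subgroups
-/

set_option autoImplicit false
set_option synthInstance.maxSize 4000

namespace H08.LpK
open H11 Cfsg Cfsg.Lie StSys H28.Tw H28.Lp Subgroup

universe u

section gen
variable {D : ChevalleyDatum} [Good D] [Cert D] {K G : Type*} [Field K] [Group G] {S : StSys D K G}

omit [Cert D] in
theorem reg_one {ψ : Node D → ℤ} (h0 : ∀ r, fv ψ r ≠ 0) {w : Weyl D} (h : ∀ r, 0 < fv ψ r → 0 < fv ψ (w.1 r)) : w = 1 := by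
  obtain ⟨v, -, hv⟩ := Set.exists_max_image (Set.univ : Set (Weyl D)) (fun v => ψ ⬝ᵥ wact v.1 1) (Set.toFinite _) ⟨1, trivial⟩
  have h1 (i) : 0 < fv ψ (v.1 (sroot i)) := by
    have := hv (v * sW i) trivial
    simp only [Subgroup.coe_mul, sW_val] at this
    rw [RootAut.wact_mul (sref_mem_RootAut _), wact_sroot, map_sub, map_smul, RootAut.wact_wt (Weyl.aut v), dotProduct_sub,
      dotProduct_smul, Pi.one_apply, one_smul] at this
    have := h0 (v.1 (sroot i))
    simp only [fv] at *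
    omega
  have h2 (r) (hr : IsPos r) : 0 < fv ψ (v.1 r) := by
    induction r using WellFoundedLT.induction with
    | ind r ih =>
      by_cases h3 : ∃ i, r = sroot i
      · obtain ⟨i, rfl⟩ := h3; exact h1 i
      · push Not at h3
        obtain ⟨i, s, h2, h3, h4, rfl⟩ := exists_decomp hr h3
        have := ih s h3 h2
        have := h1 i
        rw [RootAut.radd (Weyl.aut v) h4, fv, wt_radd (RootAut.Nc_ne (Weyl.aut v) h4), dotProduct_add]
        simp only [fv] at *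
        omega
  have h3 : v⁻¹ * w * v = 1 := eq_one_of_pos fun i => by_contra fun hn => by
    have h4 := h2 _ (isPos_rev_iff.2 hn)
    rw [RootAut.rev (Weyl.aut v), fv_rev] at h4
    have h5 := h _ (h1 i)
    have e : v.1 ((v⁻¹ * w * v).1 (sroot i)) = w.1 (v.1 (sroot i)) := by simp
    rw [e] at h4
    omega
  calc w = v * (v⁻¹ * w * v) * v⁻¹ := by group
    _ = 1 := by rw [h3]; group

omit [Cert D] in
theorem lex_one {ψ : Node D → ℤ} {w : Weyl D} (h : ∀ r, fv ψ (w.1 r) = fv ψ r)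
    (hp : ∀ r, fv ψ r = 0 → IsPos r → IsPos (w.1 r)) : w = 1 := by
  obtain ⟨M, hM⟩ := (Set.finite_range (phi : Root D → ℤ)).bddAbove
  have h1 : ∀ r : Root D, phi r ≤ M := fun r => hM ⟨r, rfl⟩
  have h2 : ∀ r : Root D, -M ≤ phi r := fun r => by have := h1 r.rev; rw [phi_rev] at this; omega
  have e : ∀ r, fv ((M + 1) • ψ + phiV D) r = (M + 1) * fv ψ r + phi r := fun r => by
    simp only [fv, phi, add_dotProduct, smul_dotProduct, smul_eq_mul]
  refine reg_one (ψ := (M + 1) • ψ + phiV D) (fun r hr => ?_) fun r hr => ?_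
  · rw [e] at hr
    have := h1 r; have := h2 r; have := phi_ne_zero r
    rcases lt_trichotomy (fv ψ r) 0 with q | q | q
    · nlinarith
    · rw [q] at hr; omega
    · nlinarith
  · rw [e] at hr
    rw [e, h]
    have := h1 r; have := h2 r; have := h2 (w.1 r)
    rcases lt_trichotomy (fv ψ r) 0 with q | q | q
    · nlinarith
    · have := isPos_iff_phi.1 (hp r q (isPos_iff_phi.2 (by rw [q] at hr; omega)))
      rw [q]; omega
    · nlinarith

theorem eq_gen {Ψ : Set (Root D)} {M : Subgroup G} (T : S.Sub Ψ M) :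
    M = S.H ⊔ closure {g | ∃ r ∈ Ψ, ∃ t, g = S.x r t} := by
  generalize hP : S.H ⊔ closure {g | ∃ r ∈ Ψ, ∃ t, g = S.x r t} = P
  have hx (r) (hr : r ∈ Ψ) (t) : S.x r t ∈ P := hP ▸ mem_sup_right (subset_closure ⟨r, hr, t, rfl⟩)
  have hH : S.H ≤ P := hP ▸ le_sup_left
  have hle : P ≤ M := hP ▸ sup_le T.H ((closure_le _).2 (by rintro _ ⟨r, hr, t, rfl⟩; exact T.x r hr t))
  refine le_antisymm (fun g hg => ?_) hle
  obtain ⟨u, hu, m0, hm0, v, hv, rfl⟩ := T.bru g hg
  refine mul_mem (mul_mem ((US_le (M := P)).2 (fun r h t => hx r h.2 t) hu) ?_) ((US_le (M := P)).2 (fun r h t => hx r h.2 t) hv)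
  obtain ⟨_, ⟨m, hm, rfl⟩, h⟩ := Set.exists_max_image (S.π '' {m | m.1 * m0.1⁻¹ ∈ P}) (fun w => phiV D ⬝ᵥ wact w.1 1) (Set.toFinite _)
    ⟨_, m0, by simp, rfl⟩
  have hmM : m.1 ∈ M := by simpa using mul_mem (hle hm) hm0
  have h1 : S.π m⁻¹ = 1 := T.conn _ (inv_mem hmM) fun r hr hp => by_contra fun hp' => by
    have h1 := h _ ⟨⟨_, n_one_mem_N r⟩ * m, by
      simpa [mul_assoc] using mul_mem (n_mem_of (hx r hr) (hx _ (T.rev r hr)) 1) hm, rfl⟩
    rw [map_mul, Subgroup.coe_mul, π_n _ one_ne_zero, RootAut.wact_mul (Weyl.aut _), wact_sref, dotProduct_sub, dotProduct_smul] at h1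
    have h2 := RootAut.cor_dot_wact (Weyl.aut (S.π m)) ((S.π m⁻¹).1 r) 1
    rw [map_inv, show (S.π m).1 ((S.π m)⁻¹.1 r) = r by simp] at h2
    rw [map_inv] at hp'
    have h3 := cor_dot_nonpos (x := 1) (fun _ => zero_le_one) hp'
    have h4 : cor ((S.π m)⁻¹.1 r) ⬝ᵥ 1 ≠ 0 := fun e => by
      obtain ⟨c, hc⟩ := exists_dot_cor ((S.π m)⁻¹.1 r).rev
      have : cor ((S.π m)⁻¹.1 r).rev = 0 := funext fun i =>
        (Finset.sum_eq_zero_iff_of_nonneg fun j _ => Good.cor_nonneg _ (isPos_rev_iff.2 hp') j).1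
          (by simpa [dotProduct] using e) i (Finset.mem_univ _)
      rw [this, zero_dotProduct] at hc; exact zero_ne_one hc
    have h5 : 0 < phiV D ⬝ᵥ wt r := pos_U r hp
    rw [h2, smul_eq_mul] at h1
    nlinarith [mul_pos (neg_pos.2 (h3.lt_of_ne h4)) h5]
  have h2 := hH (π_eq_one_iff.1 h1)
  simpa using inv_mem (mul_mem h2 hm)

end gen

/-- positive roots of the subsystem -/
def PP (r : Root chevE6) : Prop := IsPos r ∧ fv b4 r % 3 = 0

theorem key : ∀ r1, PP r1 → ∀ r3, PP r3 → pair r1 r3 = -1 → ∀ r5, PP r5 → pair r3 r5 = 0 → ∀ r6, PP r6 → pair r5 r6 = -1 →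
    (∀ j, (2 * cor r1 j + 4 * cor r3 j + 4 * cor r5 j + 2 * cor r6 j - b4 j) % 3 = 0) → ∀ r2, PP r2 → pair r2 r3 = 0 → pair r2 r5 = 0 →
      ∀ r7, PP r7 → pair r7 r2 = -1 → ∀ r4, pair r1 r4 = 0 → pair r3 r4 = -1 → pair r5 r4 = -1 → pair r6 r4 = 0 → pair r2 r4 = -1 →
        pair r7 r4 = 1 → IsPos r4 := by
  simp only [PP, isPos_iff_val, pair, fv, dotProduct, agreeE6.cor_eq, agreeE6.wt_eq]
  decide +kernel

/-- simple roots by index -/
abbrev al (i : Fin 6) : Root chevE6 := sroot (D := chevE6) i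

theorem base : (∀ i : Fin 6, i ≠ 3 → PP (al i)) ∧ pair (al 0) (al 2) = -1 ∧ pair (al 2) (al 4) = 0 ∧ pair (al 4) (al 5) = -1 ∧
    pair (al 1) (al 2) = 0 ∧ pair (al 1) (al 4) = 0 ∧ pair (al 0) (al 3) = 0 ∧ pair (al 2) (al 3) = -1 ∧ pair (al 4) (al 3) = -1 ∧
      pair (al 5) (al 3) = 0 ∧ pair (al 1) (al 3) = -1 ∧ ∃ b, PP b ∧ pair b (al 1) = -1 ∧ pair b (al 3) = 1 := by
  simp only [PP, isPos_iff_val, pair, fv, dotProduct, agreeE6.cor_eq, agreeE6.wt_eq, sroot_val]
  decide +kernel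

theorem k : KStmt.{u} := by
  intro Ω _ _ _ _
  refine ⟨fun ψ => ?_, ?_⟩
  · obtain ⟨ξ, hξ⟩ : ∃ ξ : Ωˣ, Function.Injective fun n : ℤ => ξ ^ n := by
      obtain ⟨x, hx⟩ : ∃ x : Ω, x ∉ (⋃ n : ℕ, {x : Ω | x ^ (n + 1) = 1}) ∪ {0} := by
        classical
        by_contra hn
        push Not at hn
        refine Set.not_countable_univ (((Set.countable_iUnion fun n => Set.Finite.countable ?_).union
          (Set.countable_singleton (0 : Ω))).mono fun x _ => hn x)
        exact (Polynomial.nthRoots (n + 1) (1 : Ω)).toFinset.finite_toSet.subset fun x hx => by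
          simpa [Polynomial.mem_nthRoots n.succ_pos] using hx
      simp only [Set.mem_union, Set.mem_iUnion, Set.mem_setOf_eq, Set.mem_singleton_iff, not_or, not_exists] at hx
      refine ⟨Units.mk0 x hx.2, injective_zpow_iff_not_isOfFinOrder.2 fun hf => ?_⟩
      obtain ⟨n, hn, e⟩ := isOfFinOrder_iff_pow_eq_one.1 hf
      obtain ⟨n, rfl⟩ := Nat.exists_eq_succ_of_ne_zero hn.ne'
      exact hx.1 n (by simpa using congrArg Units.val e)
    have e (r) : (∀ c ∈ ({Z ξ ψ} : Set _), chiOf c r = 1) ↔ fv ψ r = 0 := by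
      simp only [Set.mem_singleton_iff, forall_eq, chiOf_Z]
      exact ⟨fun h => hξ (h.trans (zpow_zero ξ).symm), fun h => by rw [h, zpow_zero]⟩
    have T := sub_cent (hS := hMul_sg) (sgSys_grp chevE6 Ω) (C := {Z ξ ψ}) fun m hm h => lex_one (ψ := ψ) (fun r => hξ (by
      have q := chiOf_π (hS := hMul_sg) (m := m) (c := Z ξ ψ) (c' := Z ξ ψ)
        (congrArg _ (mul_inv_eq_of_eq_mul (hm _ ⟨_, rfl, rfl⟩).symm)) r
      rwa [chiOf_Z, chiOf_Z] at q)) fun r hr => h r ((e r).2 hr)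
    simp only [e] at T
    have q := eq_gen T
    rw [q] at T
    exact T
  · have : NeZero ((3 : ℕ) : Ω) := ⟨fun q => absurd ((CharP.cast_eq_zero_iff Ω 2 3).1 q) (by decide)⟩
    obtain ⟨z0, hz⟩ := HasEnoughRootsOfUnity.exists_primitiveRoot Ω 3
    have h0 : IsPrimitiveRoot (hz.isUnit (by decide)).unit 3 := hz.isUnit_unit (by decide)
    generalize (hz.isUnit (by decide)).unit = ζ at h0
    have e (r) : (∀ c ∈ ({Z ζ b4} : Set _), chiOf c r = 1) ↔ (fv b4 r : ZMod 3) = 0 := by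
      simp only [Set.mem_singleton_iff, forall_eq, chiOf_Z]
      rw [h0.zpow_eq_one_iff_dvd, ZMod.intCast_zmod_eq_zero_iff_dvd]
    have e3 (r) : (fv b4 r : ZMod 3) = 0 ↔ fv b4 r % 3 = 0 := by
      rw [ZMod.intCast_zmod_eq_zero_iff_dvd]; exact Int.dvd_iff_emod_eq_zero
    have T := sub_cent (hS := hMul_sg) (sgSys_grp chevE6 Ω) (C := {Z ζ b4}) fun m hm h => by
      have c := mul_inv_eq_of_eq_mul (hm _ ⟨_, rfl, rfl⟩).symm
      have h1 (r) (hr : PP r) : PP (((sgSys chevE6 Ω).π m).1 r) := by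
        have q := chiOf_π (hS := hMul_sg) (m := m) (c := Z ζ b4) (c' := Z ζ b4) (congrArg _ c) r
        have q1 := (e r).2 ((e3 r).2 hr.2)
        exact ⟨h r q1 hr.1, (e3 _).1 ((e _).1 fun c hc => hc ▸ q.trans (q1 _ rfl))⟩
      have h2 := torS_sgE6 ((conj_torS hMul_sg (Weyl.aut _) (acts_π m) _).symm.trans c)
      rw [mact_Z] at h2
      generalize (sgSys chevE6 Ω).π m = w at h1 h2
      obtain ⟨b0, b1, b2, b3, b5, b6, b7, b8, b9, b10, b11, b, b12, b13, b14⟩ := base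
      have a := Weyl.aut w
      have h3 : IsPos (w.1 (al 3)) := key _ (h1 _ (b0 0 (by decide))) _ (h1 _ (b0 2 (by decide))) ((a _ _).trans b1)
        _ (h1 _ (b0 4 (by decide))) ((a _ _).trans b2) _ (h1 _ (b0 5 (by decide))) ((a _ _).trans b3) (fun j => by
          have q := congrFun h2 j
          rw [Z, Z, ← mul_inv_eq_one, ← zpow_sub, h0.zpow_eq_one_iff_dvd] at q
          simp only [Matrix.vecMul, dotProduct, corM, Matrix.of_apply] at q
          rw [show ∀ f : Node chevE6 → ℤ, ∑ i, f i = f (0 : Fin 6) + f (1 : Fin 6) + f (2 : Fin 6) + f (3 : Fin 6) + f (4 : Fin 6) +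
            f (5 : Fin 6) from Fin.sum_univ_six] at q
          change ((3 : ℕ) : ℤ) ∣ 2 * cor (w.1 (al 0)) j + 3 * cor (w.1 (al 1)) j + 4 * cor (w.1 (al 2)) j + 6 * cor (w.1 (al 3)) j +
            4 * cor (w.1 (al 4)) j + 2 * cor (w.1 (al 5)) j - b4 j at q
          omega)
        _ (h1 _ (b0 1 (by decide))) ((a _ _).trans b5) ((a _ _).trans b6) _ (h1 _ b12) ((a _ _).trans b13) _ ((a _ _).trans b7)
        ((a _ _).trans b8) ((a _ _).trans b9) ((a _ _).trans b10) ((a _ _).trans b11) ((a _ _).trans b14)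
      refine eq_one_of_pos fun i : Fin 6 => ?_
      by_cases q : i = 3
      · subst q; exact h3
      · exact (h1 _ (b0 i q)).1
    simp only [e] at T
    have q := eq_gen T
    rw [q] at T
    exact T

end H08.LpK
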