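import Mathlib
import Cfsg.Agent.H29.RI2

/-! # Classes of `p`-transpositions, `p ≥ 5` (helper8): no lines, local law -/

set_option autoImplicit false
set_option linter.unusedSectionVars false

open Cfsg Subgroup H12.RI H02.Suz H29.RI

namespace H08.R3

universe u

theorem core {G : Type u} [Group G] [Finite G] {D : Set G} {p : ℕ} (hp : p.Prime) (h5 : 5 ≤ p)
    (hD : IsOddTranspositionSet D) (ho : ∀ a ∈ D, ∀ b ∈ D, a * b = b * a ∨ (a * b) ^ p = 1) {d x : G} (hx : x ∈ D)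
    {Ω : Type u} [MulAction G Ω] {ω : Ω} {Q : Subgroup G} (S : XS D d x ω Q) : False := by
  have R := S.r2
  have R0 := R.toRO
  have all : ∀ v : G, v ≠ 1 → v * v = 1 → v ∈ D := fun v v1 v2 => by
    obtain ⟨g, rfl⟩ := R0.invol_conj R0.t_ne_one R0.tt v1 v2
    exact hD.1.conj_mem x hx g
  have po : Odd p := hp.odd_of_ne_two (by omega)
  -- `|Q0| = p + 1`
  have hq : Nat.card (Q0 Q) = p + 1 := by
    obtain ⟨k, hk, hz⟩ := R.exists_gen'
    have hc := R.card_KG
    rw [← hz, Nat.card_zpowers] at hc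
    have h2 := R.two_lt_Q0
    have ko : Odd (orderOf k) := R0.D_odd hk.1
    have k1 : k ≠ 1 := fun e => by rw [e, orderOf_one] at hc; omega
    have e1 : x * k * (x * k) = 1 := by
      rw [show x * k * (x * k) = x * k * x * k by group, R0.tkt hk, inv_mul_cancel]
    have e2 : x * k ≠ 1 := fun e => by
      have : k = x := by rw [eq_inv_of_mul_eq_one_right e, R0.tinv]
      rw [this, R0.orderOf_t] at ko
      exact absurd ko (by decide)
    rcases ho x hx _ (all _ e2 e1) with e | e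
    · rw [R0.ttx, R0.tkt hk] at e
      exact (k1 (eq_one_of_odd_of_sq ko (by nth_rewrite 1 [e]; exact inv_mul_cancel k))).elim
    · rw [R0.ttx] at e
      rw [← hc, orderOf_eq_prime (hp := ⟨hp⟩) e k1]
  have nc : ∀ s ∈ Q, s ≠ 1 → s * x ≠ x * s := fun s hs s1 e =>
    R0.ta (R0.cent_le hs s1 e.symm)
  have dv : ∀ s ∈ Q, s ≠ 1 → s * s = 1 → ∀ n, (s * x) ^ n = 1 → p ∣ n := fun s hs s1 s2 n e => by
    rcases ho s (all s s1 s2) x hx with e' | e'
    · exact absurd e' (nc s hs s1)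
    · have n1 : s * x ≠ 1 := fun e0 => nc s hs s1 (by rw [e0, eq_comm]; exact mul_eq_one_comm.1 e0)
      rw [← orderOf_eq_prime (hp := ⟨hp⟩) e' n1]; exact orderOf_dvd_of_pow_eq_one e
  rcases S.cs with h | ⟨s, r, h, -, -, hr⟩
  · obtain ⟨s, r, hs, s1, s2, hr, e⟩ := R0.exists_sr
    have r2 := h r hr
    have ri : r⁻¹ = r := inv_eq_of_mul_eq_one_right r2
    have si : s⁻¹ = s := inv_eq_of_mul_eq_one_right s2
    rw [ri] at e
    have sr := h _ (Q.mul_mem hs hr)
    -- `x r x = r x s = s x r`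
    have a1 : x * r * x = r * x * s := by
      calc x * r * x = r * (r * x * r) * x := by rw [← mul_assoc, ← mul_assoc, r2, one_mul]
        _ = r * x * s := by rw [← e, show r * (x * s * x) * x = r * x * s * (x * x) by group, R0.tt, mul_one]
    have a2 : x * r * x = s * x * r := by
      have := congrArg (·⁻¹) a1
      simpa [mul_assoc, ri, si, R0.tinv] using this
    have a3 : s * r * x = x * (s * r) := by
      have b : r * x * s = s * x * r := a1.symm.trans a2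
      calc s * r * x = s * (r * x * s) * s := by
            rw [show s * (r * x * s) * s = s * r * x * (s * s) by group, s2, mul_one]
        _ = (s * s) * x * (r * s) := by rw [b]; group
        _ = x * (s * r) := by
            rw [s2, one_mul]; congr 1
            have : (s * r)⁻¹ = s * r := inv_eq_of_mul_eq_one_right sr
            rw [← this, mul_inv_rev, ri, si]
    have a4 : s * r = 1 := by_contra fun n => nc _ (Q.mul_mem hs hr) n a3
    have a5 : r = s := by rw [eq_inv_of_mul_eq_one_right a4, si]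
    rw [a5] at e
    have : p ∣ 3 := dv s hs s1 s2 3 (by
      rw [show (s * x) ^ 3 = s * (x * s * x) * s * x by simp [pow_succ, mul_assoc], e,
        show s * (s * x * s) * s * x = (s * s) * x * (s * s) * x by group, s2, one_mul, mul_one, R0.tt])
    have := Nat.le_of_dvd (by norm_num) this
    omega
  · have e := h.eq
    have b2 : (s * x) ^ 2 = r * x * r := by
      rw [show (s * x) ^ 2 = s * (x * s * x) by simp [pow_succ, mul_assoc], e, ← hr]; group
    have b4 : (s * x) ^ 4 = x * s := by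
      rw [show (s * x) ^ 4 = (s * x) ^ 2 * (s * x) ^ 2 by group, b2,
        show r * x * r * (r * x * r) = r * (x * (r * r) * x) * r by group, hr, e, ← hr]; group
    have : p ∣ 5 := dv s h.sQ h.s1 h.ss 5 (by
      rw [pow_succ, b4, show x * s * (s * x) = x * (s * s) * x by group, h.ss, mul_one, R0.tt])
    have p5 : p = 5 := le_antisymm (Nat.le_of_dvd (by norm_num) this) h5
    obtain ⟨n, hn⟩ := IsPGroup.iff_card.1 R.Q0_pg
    rw [hq, p5] at hn
    have : 3 ∣ 2 ^ n := ⟨2, by omega⟩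
    exact absurd (Nat.Prime.dvd_of_dvd_pow (by norm_num) this) (by norm_num)

theorem noLine {G : Type u} [Group G] [Finite G] {D : Set G} {p : ℕ} (hp : p.Prime) (h5 : 5 ≤ p)
    (hD : IsOddTranspositionSet D) (ho : ∀ a ∈ D, ∀ b ∈ D, a * b = b * a ∨ (a * b) ^ p = 1) {a b e : G}
    (ha : a ∈ D) (hb : b ∈ D) (hab : b * a ∈ D) (hc : b * a = a * b) (he : e ∈ D) (hne : a * e ≠ e * a) : False := by
  have o := od_of hD ha he hne
  have ba : b ≠ a := fun h => ne_one hD.1 hab (by rw [h, sq hD.1 ha])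
  have hpp : b ∈ productPartners D a := ⟨⟨hb, hc, ba⟩, hab⟩
  have hbE := pp_E hD ha hpp
  have hpp' : b * a ∈ productPartners D a :=
    ⟨⟨hab, by rw [← mul_assoc, hc], fun h => ne_one hD.1 hb (by simpa using h)⟩,
      by rw [mul_assoc, sq hD.1 ha, mul_one]; exact hb⟩
  have hbE' := pp_E hD ha hpp'
  obtain ⟨X, hX⟩ : ∃ X, closure (sameCommutingClass D a ∪ {e}) = X := ⟨_, rfl⟩
  obtain ⟨D', d', x', e1, e2, hD', hcl, hd', hx', o', hg, hl, hE, -⟩ := xq hD ha he o hX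
  have mb : b ∈ X := hX ▸ subset_closure (Or.inl hbE)
  have m1 := (hE ⟨b, mb⟩ hbE).1
  have m2 := (hE (⟨b, mb⟩ * d') (by simpa [e1] using hbE')).1
  have ln : Ln D' := by
    refine ⟨_, m2, _, m1, _, hd', ?_, ?_, by simp⟩
    · rw [← QuotientGroup.mk_mul, ← QuotientGroup.mk_mul]; congr 1; ext; simpa [e1] using hc
    · rw [← QuotientGroup.mk_mul]; exact ne_one hD'.1 m2
  obtain ⟨Ω, _, ω, Q, S⟩ := xs hD' hcl H26.pCore_quotient_pCore ln hd' hx' o' hg
  refine core hp h5 hD' (fun y hy z hz => ?_) hx' S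
  obtain ⟨y, hy', rfl⟩ := hl y hy
  obtain ⟨z, hz', rfl⟩ := hl z hz
  rcases ho _ hy' _ hz' with h | h
  · left; rw [← QuotientGroup.mk_mul, ← QuotientGroup.mk_mul]; congr 1; ext; simpa using h
  · right; rw [← QuotientGroup.mk_mul, ← QuotientGroup.mk_pow, show (y * z) ^ p = 1 from by ext; simpa using h]; rfl

theorem not4 {G : Type u} [Group G] {D : Set G} {p : ℕ} (po : Odd p) (hD : IsRootInvolutionSet D)
    (ho : ∀ a ∈ D, ∀ b ∈ D, a * b = b * a ∨ (a * b) ^ p = 1) : IsOddTranspositionSet D := by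
  refine ⟨hD, fun a ha b hb h => ?_⟩
  rcases ho a ha b hb with e | e
  · have := orderOf_dvd_of_pow_eq_one ((pow_two _).trans (sq_cm (sq hD ha) (sq hD hb) e))
    rw [h] at this; omega
  · have := po.of_dvd_nat (orderOf_dvd_of_pow_eq_one e)
    rw [h] at this; exact absurd this (by decide)

/-- the local law -/
theorem ll {G : Type u} [Group G] [Finite G] {D : Set G} {p : ℕ} (hp : p.Prime) (h5 : 5 ≤ p)
    (hD : IsOddTranspositionSet D) (ho : ∀ a ∈ D, ∀ b ∈ D, a * b = b * a ∨ (a * b) ^ p = 1) {a b e : G}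
    (ha : a ∈ D) (hb : b ∈ D) (he : e ∈ D) (hc : a * b = b * a) (h1 : a * e ≠ e * a) (h2 : b * e ≠ e * b) :
    Commute e (a * b * e * (a * b)) := by
  have po : Odd p := hp.odd_of_ne_two (by omega)
  by_contra hn
  obtain ⟨r, hr, ra, rb, ze, -, o, -⟩ := dich hD ha hb he hc rfl hn
  obtain ⟨z, hz⟩ : ∃ z, r * (a * b) = z := ⟨_, rfl⟩
  rw [hz] at ze
  have cab : Commute a b := hc
  have za : Commute z a := hz ▸ ra.mul_left ((Commute.refl a).mul_left cab.symm)
  have zb : Commute z b := hz ▸ rb.mul_left (cab.mul_left (Commute.refl b))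
  have zr : Commute z r := hz ▸ (Commute.refl r).mul_left (ra.symm.mul_left rb.symm)
  have z2 : z * z = 1 := hz ▸ sq_cm (sq hD.1 hr) (sq_cm (sq hD.1 ha) (sq hD.1 hb) hc) (ra.mul_right rb)
  have z4 : ∀ y ∈ zpowers z, y = 1 ∨ y = z := fun y hy => by
    obtain ⟨k, rfl⟩ := (mem_powers_iff_mem_zpowers.2 hy)
    have z2' : z ^ 2 = 1 := by rw [pow_two, z2]
    rcases Nat.even_or_odd' k with ⟨m, rfl | rfl⟩
    · left; simp [pow_mul, z2']
    · right; simp [pow_succ, pow_mul, z2']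
  let E : Set G := {y | y ∈ D ∧ Commute z y ∧ y ≠ z}
  have aE : a ∈ E := ⟨ha, za, fun h => h1 (h ▸ ze)⟩
  have bE : b ∈ E := ⟨hb, zb, fun h => h2 (h ▸ ze)⟩
  have rE : r ∈ E := ⟨hr, zr, fun h => not_comm hD.1 he hr o (h ▸ ze.symm)⟩
  have eE : e ∈ E := ⟨he, ze, fun h => h1 (h ▸ za.symm)⟩
  obtain ⟨Y, hY⟩ : ∃ Y, closure E = Y := ⟨_, rfl⟩
  have mY : ∀ y ∈ E, y ∈ Y := fun y hy => hY ▸ subset_closure hy
  have zY : ∀ g ∈ Y, Commute z g := fun g hg => cent_cl (fun y hy => hy.2.1) (hY ▸ hg)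
  have R1 : IsRootInvolutionSet ((↑) ⁻¹' E : Set Y) := sub_root hD.1 (fun y hy => hy.1) hY
    (fun d hd g hg => ⟨hD.1.conj_mem d hd.1 g, ((zY g hg).mul_right hd.2.1).mul_right (zY g hg).inv_right, fun h =>
      hd.2.2 (by rw [show d = g⁻¹ * z * g by rw [← h]; group, mul_assoc, (zY g hg).eq]; group)⟩)
    (fun x hx y hy o' n => absurd (od_of hD hx.1 hy.1 n) o')
  let N : Subgroup Y := (zpowers z).subgroupOf Y
  haveI : N.Normal := ⟨fun n hn g => by
    rcases z4 _ (mem_subgroupOf.1 hn) with h | h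
    · have : n = 1 := Subtype.ext h
      simp [this]
    · have : g * n * g⁻¹ = n := Subtype.ext (by
        push_cast; rw [h, ← (zY g g.2).eq]; group)
      rw [this]; exact hn⟩
  let π := QuotientGroup.mk' N
  have k1 : ∀ y : Y, π y = 1 ↔ (y : G) ∈ zpowers z := fun y => (QuotientGroup.eq_one_iff y).trans mem_subgroupOf
  have R2 : IsRootInvolutionSet (π '' ((↑) ⁻¹' E)) := map_root R1 (QuotientGroup.mk'_surjective N) fun d hd h => by
    rcases z4 _ ((k1 d).1 h) with h' | h'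
    · exact ne_one hD.1 hd.1 h'
    · exact hd.2.2 h'
  have ho' : ∀ x ∈ π '' ((↑) ⁻¹' E), ∀ y ∈ π '' ((↑) ⁻¹' E), x * y = y * x ∨ (x * y) ^ p = 1 := by
    rintro _ ⟨x, hx, rfl⟩ _ ⟨y, hy, rfl⟩
    rcases ho _ hx.1 _ hy.1 with h | h
    · left; rw [← map_mul, ← map_mul]; congr 1; ext; simpa using h
    · right; rw [← map_mul, ← map_pow, show (x * y) ^ p = 1 from by ext; simpa using h, map_one]
  have ia : π ⟨a, mY a aE⟩ ∈ π '' ((↑) ⁻¹' E) := ⟨_, aE, rfl⟩
  have ie : π ⟨e, mY e eE⟩ ∈ π '' ((↑) ⁻¹' E) := ⟨_, eE, rfl⟩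
  have ir : π ⟨r, mY r rE⟩ ∈ π '' ((↑) ⁻¹' E) := ⟨_, rE, rfl⟩
  refine noLine hp h5 (not4 po R2 ho') ho' (b := π ⟨b, mY b bE⟩) ia ⟨_, bE, rfl⟩ ?_ ?_ ie fun h => ?_
  · have : π ⟨r, mY r rE⟩ * (π ⟨b, mY b bE⟩ * π ⟨a, mY a aE⟩) = 1 := by
      rw [← map_mul, ← map_mul, k1]
      show r * (b * a) ∈ _
      rw [← hc, hz]; exact mem_zpowers z
    rw [eq_inv_of_mul_eq_one_right this, inv R2 ir]; exact ir
  · rw [← map_mul, ← map_mul]; congr 1; ext; exact hc.symm
  · have := sq_cm (sq R2 ia) (sq R2 ie) h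
    rw [← map_mul, ← map_mul, k1] at this
    refine (od_of hD ha he h1).not_pow (sq hD.1 he) (k := 2) ?_
    rw [show (a * e) ^ 2 ^ 2 = (a * e * (a * e)) * (a * e * (a * e)) by simp [pow_succ, mul_assoc]]
    rcases z4 _ this with h' | h'
    · rw [show a * e * (a * e) = 1 from h', one_mul]
    · rw [show a * e * (a * e) = z from h', z2]

theorem ll' {G : Type u} [Group G] [Finite G] {D : Set G} {p : ℕ} (hp : p.Prime) (h5 : 5 ≤ p)
    (hD : IsOddTranspositionSet D) (ho : ∀ a ∈ D, ∀ b ∈ D, a * b = b * a ∨ (a * b) ^ p = 1) {a b e : G}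
    (ha : a ∈ D) (hb : b ∈ D) (he : e ∈ D) (hc : a * b = b * a) (h1 : a * e ≠ e * a) (h2 : b * e ≠ e * b) :
    Commute (a * e * a) (b * e * b) := by
  have := cm_w (sq hD.1 ha) (ll hp h5 hD ho ha hb he hc h1 h2)
  rwa [show a * (a * b * e * (a * b)) * a = (a * a) * b * e * (a * b * a) by group, hc, mul_assoc b a a,
    sq hD.1 ha, one_mul, mul_one] at this

theorem modl {G : Type u} [Group G] {t u : G} {C : Subgroup G} (uu : u * u = 1)
    (cm : ∀ i : ℕ, Commute u ((t ^ i)⁻¹ * u * t ^ i)) (hs : ∀ i : ℕ, 1 ≤ i → i ≤ 4 → t ^ i * u * t ^ i ∈ C) : u ∈ C := by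
  obtain ⟨v, hv⟩ : ∃ v : ℕ → G, v = fun i => (t ^ i)⁻¹ * u * t ^ i := ⟨_, rfl⟩
  have v2 : ∀ i, v i * v i = 1 := fun i => by
    rw [hv]; show (t ^ i)⁻¹ * u * t ^ i * ((t ^ i)⁻¹ * u * t ^ i) = 1
    rw [show (t ^ i)⁻¹ * u * t ^ i * ((t ^ i)⁻¹ * u * t ^ i) = (t ^ i)⁻¹ * (u * u) * t ^ i by group, uu]; group
  have vi : ∀ i, (v i)⁻¹ = v i := fun i => inv_eq_of_mul_eq_one_right (v2 i)
  have vc : ∀ i k, v (i + k) * v i = v i * v (i + k) := fun i k => by
    rw [hv]
    show (t ^ (i + k))⁻¹ * u * t ^ (i + k) * ((t ^ i)⁻¹ * u * t ^ i) =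
      (t ^ i)⁻¹ * u * t ^ i * ((t ^ (i + k))⁻¹ * u * t ^ (i + k))
    calc _ = (t ^ i)⁻¹ * (((t ^ k)⁻¹ * u * t ^ k) * u) * t ^ i := by group
      _ = (t ^ i)⁻¹ * (u * ((t ^ k)⁻¹ * u * t ^ k)) * t ^ i := by rw [(cm k).eq]
      _ = _ := by group
  have s1 := hs 1 (by omega) (by omega)
  have s2 := hs 2 (by omega) (by omega)
  have s3 := hs 3 (by omega) (by omega)
  have s4 := hs 4 (by omega) (by omega)
  have w11 : (v 2)⁻¹ * v 3 * v 1 ∈ C := by
    convert C.mul_mem (C.mul_mem (C.inv_mem s2) s1) s1 using 1; rw [hv]; group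
  have w21 : (v 3)⁻¹ * v 4 * v 1 ∈ C := by
    convert C.mul_mem (C.mul_mem (C.inv_mem s3) s2) s1 using 1; rw [hv]; group
  have w22 : (v 4)⁻¹ * v 6 * v 2 ∈ C := by
    convert C.mul_mem (C.mul_mem (C.inv_mem s4) s2) s2 using 1; rw [hv]; group
  have a1 : v 2 * v 4 ∈ C := by
    convert C.mul_mem w11 (C.inv_mem w21) using 1
    rw [show (v 2)⁻¹ * v 3 * v 1 * ((v 3)⁻¹ * v 4 * v 1)⁻¹ = (v 2)⁻¹ * v 3 * ((v 4)⁻¹ * v 3) by group, vi, vi,
      vc 3 1, show v 2 * v 3 * (v 3 * v (3 + 1)) = v 2 * (v 3 * v 3) * v 4 by group, v2, mul_one]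
  have a2 : v 6 ∈ C := by
    convert C.mul_mem a1 w22 using 1
    rw [show v 2 * v 4 * ((v 4)⁻¹ * v 6 * v 2) = v 2 * (v (2 + 4) * v 2) by group, vc 2 4, ← mul_assoc, v2, one_mul]
  convert C.mul_mem (C.mul_mem s3 a2) (C.inv_mem s3) using 1
  have e : t ^ 3 * u * t ^ 3 = t ^ 6 * v 3 := by rw [hv]; group
  rw [e, show t ^ 6 * v 3 * v 6 * (t ^ 6 * v 3)⁻¹ = t ^ 6 * (v 3 * v (3 + 3)) * (v 3)⁻¹ * (t ^ 6)⁻¹ by group,
    ← vc 3 3, hv]
  group

theorem p4 {G : Type u} [Group G] [Finite G] {D : Set G} {p : ℕ} (hp : p.Prime) (h5 : 5 ≤ p)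
    (hD : IsOddTranspositionSet D) (ho : ∀ a ∈ D, ∀ b ∈ D, a * b = b * a ∨ (a * b) ^ p = 1) {x f g d : G}
    (hx : x ∈ D) (hf : f ∈ D) (hg : g ∈ D) (hd : d ∈ D) (xf : x * f ≠ f * x) (fg : f * g ≠ g * f)
    (gd : g * d ≠ d * g) (xg : x * g = g * x) (xd : x * d = d * x) (fd : f * d = d * f) : False := by
  have x2 := sq hD.1 hx
  obtain ⟨t, ht⟩ : ∃ t, x * f = t := ⟨_, rfl⟩
  have xt : x * t = f := by rw [← ht, cc x2]
  have tp : orderOf t = p := by
    refine orderOf_eq_prime (hp := ⟨hp⟩) (ht ▸ (ho x hx f hf).resolve_left xf) fun e => xf ?_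
    rw [ht, e, eq_comm]; exact mul_eq_one_comm.1 (ht.trans e)
  have i1 : x * t = t⁻¹ * x := by
    rw [xt, ← ht, mul_inv_rev, inv hD.1 hx, inv hD.1 hf, mul_assoc, x2, mul_one]
  have ii : ∀ i : ℕ, x * t ^ i = (t ^ i)⁻¹ * x := fun i => by
    induction i with
    | zero => simp
    | succ i ih => rw [pow_succ, ← mul_assoc, ih, mul_assoc, i1]; group
  have xD : ∀ i : ℕ, x * t ^ i ∈ D ∧ x * t ^ (i + 1) ∈ D := fun i => by
    induction i with
    | zero => simpa [xt] using ⟨hx, hf⟩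
    | succ i ih =>
      refine ⟨ih.2, ?_⟩
      have := hD.1.conj_mem _ ih.1 t⁻¹
      rwa [inv_inv, ← mul_assoc, ← i1, show x * t * t ^ i * t = x * t ^ (i + 1 + 1) by group] at this
  have nc : ∀ y : G, Commute y x → y * f ≠ f * y → ∀ i : ℕ, ¬ p ∣ i → y * (x * t ^ i) ≠ x * t ^ i * y :=
    fun y h1 h2 i hi h3 => by
      have c1 : Commute y (t ^ i) := by
        have := h1.mul_right (show Commute y (x * t ^ i) from h3)
        rwa [cc x2] at this
      have m : t ∈ zpowers (t ^ i) := mem_zpowers_pow_iff.2 (by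
        rw [tp]; exact ((Nat.Prime.coprime_iff_not_dvd hp).2 hi).symm)
      obtain ⟨k, hk⟩ := m
      have c2 : Commute y t := hk ▸ c1.zpow_right k
      exact h2 (xt ▸ h1.mul_right c2)
  have cxg : Commute x g := xg
  have cxd : Commute x d := xd
  have cfd : Commute f d := fd
  have cdt : Commute d t := ht ▸ cxd.symm.mul_right cfd.symm
  have hx' : Commute (d * g * d) x := (cxd.symm.mul_left cxg.symm).mul_left cxd.symm
  have xu : x * (x * g) * x = x * g := by rw [cc x2, xg]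
  have key : x * g ∈ centralizer {d * g * d} := by
    refine modl (t := t) (sq_cm x2 (sq hD.1 hg) xg) (fun i => ?_) fun i i1 i4 => ?_
    · by_cases hi : p ∣ i
      · rw [orderOf_dvd_iff_pow_eq_one.1 (tp ▸ hi)]; simp
      have := (ll hp h5 hD ho hx hg (xD i).1 xg (nc x (Commute.refl x) xf i hi) (nc g cxg.symm fg.symm i hi)).eq
      have e : x * t ^ i * (x * g) * (x * t ^ i) = (t ^ i)⁻¹ * (x * g) * t ^ i := by
        nth_rewrite 1 [ii]
        rw [show (t ^ i)⁻¹ * x * (x * g) * (x * t ^ i) = (t ^ i)⁻¹ * (x * (x * g) * x) * t ^ i by group, xu]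
      rw [← e]
      show _ = _
      calc _ = x * g * (x * t ^ i) * (x * g) * (x * t ^ i) := by simp only [mul_assoc]
        _ = _ := by rw [← this]; simp only [mul_assoc]
    · have hi : ¬ p ∣ i := fun h => by have := Nat.le_of_dvd (by omega) h; omega
      have := ll' hp h5 hD ho hd (xD i).1 hg (cxd.symm.mul_right (cdt.pow_right i)) gd.symm
        (nc g cxg.symm fg.symm i hi).symm
      have e : x * (x * t ^ i * g * (x * t ^ i)) = t ^ i * (x * g) * t ^ i := by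
        rw [xg]; simp only [mul_assoc]; rw [cc x2]
      rw [mem_centralizer_singleton_iff, ← e]
      exact (hx'.mul_right this).symm
  have k2 : Commute (d * g * d) g := by
    have := hx'.mul_right (show Commute (d * g * d) (x * g) from (mem_centralizer_singleton_iff.1 key).symm)
    rwa [cc x2] at this
  have o := od_sq hD.1 hg hd (od_of hD hg hd gd)
  exact not_comm hD.1 hg (cjw hD.1 (sq hD.1 hd) hg) o k2.symm

end H08.R3
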