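import Cfsg.Agent.H28.Tw0

/-!
# Fixed points of a Frobenius map of characteristic two in a Levi subgroup
-/

set_option autoImplicit false

namespace Cfsg.Agent.H08.TwC
open H11 Cfsg Cfsg.Lie StSys

universe u

section
variable {D : ChevalleyDatum} [Good D] {K G : Type*} [Field K] [Group G] {S : StSys D K G} {J : Set (Node D)}
  {σ : MulAut G} (hx : ∀ r, InJ J r → ∀ t, σ (S.x r t) = S.x r (t ^ 2))
include hx

omit [Good D] in
theorem keep {T : Set (Root D)} (hT : ∀ r ∈ T, InJ J r) {g : G} (hg : g ∈ S.US T) : σ g ∈ S.US T :=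
  US_induction (C := fun g => σ g ∈ S.US T) (by rw [map_one]; exact one_mem _)
    (fun r hr t => by rw [hx r (hT r hr)]; exact x_mem_US hr _)
    (fun a _ b _ ha hb => by rw [map_mul]; exact mul_mem ha hb) hg

theorem fixU {T : Set (Root D)} (hc : Closed T) (hp : ∀ r ∈ T, IsPos r) (hT : ∀ r ∈ T, InJ J r) {g : G}
    (hg : g ∈ S.US T) (e : σ g = g) : g ∈ H28.Tw.LJ S J := by
  obtain ⟨L, hL, hL', -⟩ := exists_list T
  obtain ⟨t, rfl⟩ := exists_prodL hc (fun r h => pos_U r (hp r h)) reg_phiV hL hL' hg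
  have e1 : ∀ L : List (Root D), (∀ r ∈ L, InJ J r) → σ (S.prodL L t) = S.prodL L fun r => t r ^ 2 := fun L h => by
    induction L with
    | nil => simp
    | cons a L ih =>
      rw [prodL_cons, map_mul, ih fun r hr => h r (List.mem_cons_of_mem _ hr), hx a (h a List.mem_cons_self), prodL_cons]
  refine Subgroup.list_prod_mem _ fun x hx => ?_
  obtain ⟨r, hr, rfl⟩ := List.mem_map.1 hx
  have e2 : t r ^ 2 = t r := prodL_inj' hc (fun r h => pos_U r (hp r h)) reg_phiV (fun r => (hL r).1) hL'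
    ((e1 L fun r hr => hT r ((hL r).1 hr)).symm.trans e) r hr
  by_cases ht : t r = 0
  · rw [ht, x_zero]; exact one_mem _
  · rw [mul_left_cancel₀ ht (show t r * t r = t r * 1 by rw [mul_one, ← pow_two, e2])]
    exact Subgroup.subset_closure ⟨r, hT r ((hL r).1 hr), rfl⟩

theorem fixN [Cert D] {M : Subgroup G} (hM : ∀ r, InJ J r → ∀ t, S.x r t ∈ M)
    (hc : ∀ m : S.N, m.1 ∈ M → (∀ j ∈ J, IsPos ((S.π m).1 (sroot j))) → S.π m = 1) (h2 : (2 : K) = 0)
    (m : S.N) (hm : m.1 ∈ M) (e : σ m = m) : m.1 ∈ H28.Tw.LJ S J ⊔ (S.H ⊓ fixS σ) := by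
  have key : ∀ k, ∀ m : S.N, m.1 ∈ M → σ m = m → len sW (S.π m) = k → m.1 ∈ H28.Tw.LJ S J ⊔ (S.H ⊓ fixS σ) := by
    intro k
    induction k using Nat.strong_induction_on with
    | _ k ih =>
    intro m hm e hk
    by_cases h1 : ∀ j ∈ J, IsPos ((S.π m).1 (sroot j))
    · exact Subgroup.mem_sup_right ⟨π_eq_one_iff.1 (hc m hm h1), e⟩
    push Not at h1
    obtain ⟨j, hj, hn⟩ := h1
    have a1 : InJ J (sroot j) := inJ_sroot.2 hj
    have a2 : InJ J (sroot j).rev := inJ_rev.2 a1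
    have e1 : S.n (sroot j) 1 = S.x (sroot j) 1 * S.x (sroot j).rev 1 * S.x (sroot j) 1 := by
      rw [StSys.n, inv_one, show (-1 : K) = 1 by linear_combination -h2]
    have nL : S.n (sroot j) 1 ∈ H28.Tw.LJ S J := by
      rw [e1]
      exact mul_mem (mul_mem (Subgroup.subset_closure ⟨_, a1, rfl⟩) (Subgroup.subset_closure ⟨_, a2, rfl⟩))
        (Subgroup.subset_closure ⟨_, a1, rfl⟩)
    have nF : σ (S.n (sroot j) 1) = S.n (sroot j) 1 := by
      rw [e1, map_mul, map_mul, hx _ a1, hx _ a2, one_pow]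
    have hl := (weylPreCox D).len_of_not (i := j) (w := (S.π m)⁻¹) (by rwa [inv_inv])
    have := ih _ (by
        have : S.π (m * ⟨_, n_one_mem_N (sroot j)⟩) = (sW j * (S.π m)⁻¹)⁻¹ := by
          rw [map_mul, mul_inv_rev, inv_inv, (weylPreCox D).inv_eq, π_n_sroot]
        rw [← hk, ← (weylPreCox D).len_inv (S.π m), ← hl, this, (weylPreCox D).len_inv]
        exact Nat.lt_succ_self _) (m * ⟨_, n_one_mem_N (sroot j)⟩)
      (mul_mem hm (n_mem_of (hM _ a1) (hM _ a2) 1)) (by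
        change σ (m * S.n (sroot j) 1) = m * S.n (sroot j) 1
        rw [map_mul, e, nF]) rfl
    simpa using mul_mem this (inv_mem (Subgroup.mem_sup_left nL))
  exact key _ m hm e rfl

end

theorem c : H28.Tw.CStmt.{u} := by
  intro K G _ _ S J M T hc σ hN hx h2 g ⟨hg, hf⟩
  obtain ⟨u, hu, m, hm, v, hv, rfl⟩ := T.bru g hg
  have hu' := keep hx (fun r h => h.2) hu
  have hv' := keep hx (fun r h => h.2) hv
  have U1 : S.US {r | IsPos r ∧ r ∈ {r | InJ J r}} ≤ S.U := US_mono fun _ h => h.1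
  have U2 : S.US (InvS (S.π m).1 ∩ {r | InJ J r}) ≤ S.US (InvS (S.π m).1) := US_mono fun _ h => h.1
  have U3 : S.US (InvS (S.π m).1) ≤ S.U := US_mono fun _ h => h.1
  have e : σ u * σ m * σ v = u * m * v := by simpa only [map_mul] using mem_fixS.1 hf
  have h3 := eq_of_unu (hN _ m.2) m.2 (U1 hu') (U3 (U2 hv')) (U1 hu) (U3 (U2 hv)) e
  rw [h3] at e
  obtain ⟨e1, e2⟩ := eq_of_bnu (acts_π m) (U_le_B (U1 hu')) (U_le_B (U1 hu)) (U2 hv') (U2 hv) e
  exact mul_mem (mul_mem (Subgroup.mem_sup_left (fixU hx (closed_isPos.inter T.cl) (fun _ h => h.1) (fun _ h => h.2) hu e1))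
    (fixN hx T.x hc h2 m hm h3))
    (Subgroup.mem_sup_left (fixU hx ((closed_invS _).inter T.cl) (fun _ h => h.1.1) (fun _ h => h.2) hv e2))

end Cfsg.Agent.H08.TwC
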